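import Groth.Agent.PicFin.Surface
import Groth.Agent.Nakai.NefAmple
import Groth.Agent.Nakai.UnifReg
import Groth.Agent.TMul.GlobGen
import Groth.Agent.ProjMor.Generated
import Groth.Agent.Intersect.HilbCoeff

/-!
Boundedness criteria for families of invertible modules on an integral projective scheme.
-/

set_option autoImplicit false
set_option backward.isDefEq.respectTransparency false
set_option linter.style.haveILetI false
set_option linter.unusedSectionVars false

universe u

open CategoryTheory CategoryTheory.Limits AlgebraicGeometry TopologicalSpace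
open Groth.Agent.Intersect Groth.Agent.Nakai

noncomputable section

namespace Groth.Agent.PicFin

attribute [local instance] Nakai.clMonoid

variable {k : Type u} [Field k] {X : Scheme.{u}} [X.Over (Spec (CommRingCat.of k))]
  [IsProper (X ↘ Spec (CommRingCat.of k))]

theorem valBd_of_numFin (p : Pol X) {P : X.Modules → Prop} (hP : ∀ L, P L → PicF.IsInvertible L)
    (h : NumFin k P) : ValBd k p P := by
  obtain ⟨q, A, hA, hq⟩ := h
  intro n
  refine ⟨Finset.univ.sup fun j => (Curv2.euler k X (tH p.M (A j) n)).natAbs, fun L hL => ?_⟩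
  obtain ⟨j, N, hN, hf, hcl⟩ := hq L hL
  rw [euler_congr k (show PicF.cl (tH p.M L n) = PicF.cl (CohB1.tensorMod (tH p.M (A j) n) N) by
    rw [cl_tensor, cl_tH, cl_tH, hcl]; ac_rfl), hf _ (CurveRR.isCoh_of_inv (isInvertible_tH p.amp (hP _ (hA j)) n)),
    Int.abs_eq_natAbs]
  exact_mod_cast Finset.le_sup (f := fun j => (Curv2.euler k X (tH p.M (A j) n)).natAbs) (Finset.mem_univ j)

theorem isBounded_of_topBd [IsAlgClosed k] [IsIntegral X] {n : ℕ} (i : X ⟶ CohB1.ProjSpace n k) [IsClosedImmersion i]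
    (hi : i ≫ CohB1.ProjSpace.toSpec n k = X ↘ Spec (CommRingCat.of k)) {s : ℕ}
    (hd : topologicalKrullDim X = ((s + 2 : ℕ) : WithBot ℕ∞)) {P : X.Modules → Prop}
    (hP : ∀ L, P L → PicF.IsInvertible L) (h : TopBd k (Pol.ofEmb i) s P) : Pic13.IsBounded k X P :=
  isBounded_of_valBd i hi hd hP (valBd_of_numFin _ hP (numFin_of_topBd s k X _ hd P hP h))

/-! ### Coefficients in the binomial basis -/

theorem exists_coeff (p : Pol X) {r : ℕ} (hd : topologicalKrullDim X ≤ (r : WithBot ℕ∞)) {L : X.Modules}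
    (hL : PicF.IsInvertible L) :
    ∃ a : Fin (r + 1) → ℤ, ∀ m : ℕ,
      Curv2.euler k X (tH p.M L m) = ∑ j : Fin (r + 1), a j * ((m + j).choose j : ℤ) := by
  obtain ⟨M', hM', ⟨e⟩⟩ := W7Hull.exists_tensor_inverse p.amp.1
  choose α hα using fun i : ℕ => alt_int k L (fun _ : Fin i => M')
  let β : ℕ → ℤ := fun j => if j < r + 1 then α j else 0
  refine ⟨fun j => β j - β (j + 1), fun m => ?_⟩
  have hLc := CurveRR.isCoh_of_inv hL
  have h1 := euler_pow_eq_binSum k p.amp.1 hM' e r m L hLc (lt_succ_of_le' (dim_le_of_le hd))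
  rw [euler_congr k (show PicF.cl (CohB1.tensorMod (CohB1.tensorPow p.M m) L) = PicF.cl (tH p.M L m) by
    rw [cl_tensor, cl_tH, cl_pow, mul_comm]), binSum] at h1
  have h2 : Curv2.euler k X (tH p.M L m) = ∑ i ∈ Finset.range (r + 1), ((m + i - 1).choose i : ℤ) * β i := by
    have h3 : (Curv2.euler k X (tH p.M L m) : ℚ) =
        ((∑ i ∈ Finset.range (r + 1), ((m + i - 1).choose i : ℤ) * β i : ℤ) : ℚ) := by
      rw [h1, Int.cast_sum]
      refine Finset.sum_congr rfl fun i hi => ?_
      rw [Int.cast_mul, Int.cast_natCast, hα i]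
      rw [show β i = α i from if_pos (Finset.mem_range.1 hi)]
    exact_mod_cast h3
  have key : ∀ R : ℕ, ∑ i ∈ Finset.range (R + 1), ((m + i - 1).choose i : ℤ) * β i =
      ∑ i ∈ Finset.range (R + 1), (β i - β (i + 1)) * ((m + i).choose i : ℤ) + β (R + 1) * ((m + R).choose R : ℤ) := by
    intro R
    induction R with
    | zero => simp
    | succ R ih =>
      rw [Finset.sum_range_succ _ (R + 1), Finset.sum_range_succ _ (R + 1), ih,
        show m + (R + 1) - 1 = m + R by omega, show m + (R + 1) = m + R + 1 by omega, Nat.choose_succ_succ]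
      push_cast
      ring
  rw [h2, key r, Finset.sum_range fun i => (β i - β (i + 1)) * ((m + i).choose i : ℤ)]
  simp [β]

theorem valBd_of_coeff (p : Pol X) {r : ℕ} {P : X.Modules → Prop} {B : ℕ}
    (h : ∀ L, P L → ∃ a : Fin (r + 1) → ℤ,
      (∀ m : ℕ, Curv2.euler k X (tH p.M L m) = ∑ j : Fin (r + 1), a j * ((m + j).choose j : ℤ)) ∧ ∀ j, |a j| ≤ B) :
    ValBd k p P := fun m => by
  refine ⟨∑ j : Fin (r + 1), B * (m + j).choose j, fun L hL => ?_⟩
  obtain ⟨a, ha, hb⟩ := h L hL
  rw [ha m]
  refine (Finset.abs_sum_le_sum_abs _ _).trans ?_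
  push_cast
  refine Finset.sum_le_sum fun j _ => ?_
  rw [abs_mul, Nat.abs_cast]
  exact mul_le_mul_of_nonneg_right (hb j) (by positivity)

theorem D_replicate_coeff (p : Pol X) {R : ℕ} {L : X.Modules} (a : Fin R → ℤ)
    (ha : ∀ m : ℕ, Curv2.euler k X (tH p.M L m) = ∑ j : Fin R, a j * ((m + j).choose j : ℤ)) :
    ∀ (t n : ℕ), D k (List.replicate t p.M) (tH p.M L n) =
      (-1 : ℚ) ^ t * ∑ j : Fin R, if t ≤ (j : ℕ) then (a j : ℚ) * ((n + j).choose (j - t) : ℚ) else 0
  | 0, n => by
    simp only [List.replicate_zero, D, pow_zero, one_mul, Nat.zero_le, if_true, Nat.sub_zero, ha n]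
    push_cast
    rfl
  | t + 1, n => by
    rw [List.replicate_succ, D, ← D_congr (l := List.replicate t p.M) (cl_tH_succ p.M L n),
      D_replicate_coeff p a ha t n, D_replicate_coeff p a ha t (n + 1), ← mul_sub, ← Finset.sum_sub_distrib, pow_succ,
      mul_assoc]
    congr 1
    rw [Finset.mul_sum]
    refine Finset.sum_congr rfl fun j _ => ?_
    rcases lt_trichotomy t (j : ℕ) with h | h | h
    · rw [if_pos h.le, if_pos h.le, if_pos (Nat.succ_le_of_lt h), show (j : ℕ) - t = (j - (t + 1)) + 1 by omega,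
        show n + 1 + (j : ℕ) = (n + j) + 1 by omega, Nat.choose_succ_succ]
      push_cast
      ring
    · rw [if_pos h.le, if_pos h.le, if_neg (by omega)]
      simp [h]
    · rw [if_neg (by omega), if_neg (by omega), if_neg (by omega)]
      simp

theorem topBd_of_coeff (p : Pol X) {s : ℕ} {P : X.Modules → Prop} {B : ℕ}
    (h : ∀ L, P L → ∃ a : Fin (s + 3) → ℤ,
      (∀ m : ℕ, Curv2.euler k X (tH p.M L m) = ∑ j : Fin (s + 3), a j * ((m + j).choose j : ℤ)) ∧
      |a (Fin.last (s + 2))| ≤ B ∧ |a (Fin.castSucc (Fin.last (s + 1)))| ≤ B ∧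
        |a (Fin.castSucc (Fin.castSucc (Fin.last s)))| ≤ B) :
    TopBd k p s P := fun n => by
  refine ⟨∑ j : Fin (s + 3), (B : ℚ) * ((n + j).choose (j - s) : ℚ), fun L hL => ?_⟩
  obtain ⟨a, ha, h2, h1, h0⟩ := h L hL
  rw [D_replicate_coeff p a ha, abs_mul, abs_pow, abs_neg, abs_one, one_pow, one_mul]
  refine (Finset.abs_sum_le_sum_abs _ _).trans (Finset.sum_le_sum fun j _ => ?_)
  split
  case isFalse => simp; positivity
  case isTrue hj =>
    rw [abs_mul, Nat.abs_cast]
    refine mul_le_mul_of_nonneg_right ?_ (by positivity)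
    have hb : |a j| ≤ B := by
      rcases (show (j : ℕ) = s ∨ (j : ℕ) = s + 1 ∨ (j : ℕ) = s + 2 by omega) with e | e | e
      · rwa [show j = Fin.castSucc (Fin.castSucc (Fin.last s)) from Fin.ext (by simp [e])]
      · rwa [show j = Fin.castSucc (Fin.last (s + 1)) from Fin.ext (by simp [e])]
      · rwa [show j = Fin.last (s + 2) from Fin.ext (by simp [e])]
    rw [← Int.cast_abs]
    exact_mod_cast hb

/-! ### Any ample module -/

theorem D_replicate_pow {H : X.Modules} (hH : PicF.IsInvertible H) (d : ℕ) {r : ℕ}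
    (hd : topologicalKrullDim X ≤ (r : WithBot ℕ∞)) :
    ∀ (j : ℕ) (l : List X.Modules), (∀ A ∈ l, PicF.IsInvertible A) → r = j + l.length →
      D k (List.replicate j (CohB1.tensorPow H d) ++ l) (Coh.structureModule X) =
        (d : ℚ) ^ j * D k (List.replicate j H ++ l) (Coh.structureModule X)
  | 0, l, _, _ => by simp
  | j + 1, l, hl, hr => by
    have hHd := TMul.isInvertible_tensorPow hH d
    have hmem : ∀ A ∈ List.replicate j (CohB1.tensorPow H d) ++ l, PicF.IsInvertible A := fun A hA =>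
      (List.mem_append.1 hA).elim (mem_replicate_inv hHd j A) (hl A)
    rw [List.replicate_succ, List.cons_append,
      D_pow k (Nakai.isCoh_one k) hH hmem (e := r) (by simp; omega) ((dim_support_structure (X := X)).le.trans hd) d,
      D_perm k (List.perm_middle (a := H) (l₁ := List.replicate j (CohB1.tensorPow H d)) (l₂ := l)).symm,
      D_replicate_pow hH d hd j (H :: l) (mem_cons_inv hH hl) (by simp; omega),
      D_perm k (List.perm_middle (a := H) (l₁ := List.replicate j H) (l₂ := l)), ← List.cons_append, ← List.replicate_succ,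
      pow_succ]
    ring

theorem exists_emb {H : X.Modules} (hH : CohB1.IsAmple H) :
    ∃ (n d : ℕ) (i : X ⟶ CohB1.ProjSpace n k) (_ : IsClosedImmersion i),
      0 < d ∧ i ≫ CohB1.ProjSpace.toSpec n k = X ↘ Spec (CommRingCat.of k) ∧
        PicF.cl (Pol.ofEmb i).M = PicF.cl (CohB1.tensorPow H d) := by
  obtain ⟨n, d, i, hd, hi, hcl, ⟨e⟩⟩ := AmpleEmb.exists_closedImmersion_projSpace (X ↘ Spec (CommRingCat.of k)) hH
  exact ⟨n, d, i, hcl, hd, hi, (PicGrp.cl_eq_cl_iff _ _).2 ⟨e⟩⟩

theorem D_replicate_congr {A B : X.Modules} (h : PicF.cl A = PicF.cl B) :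
    ∀ (j : ℕ) (F : X.Modules), D k (List.replicate j A) F = D k (List.replicate j B) F
  | 0, F => rfl
  | j + 1, F => by
    rw [List.replicate_succ, List.replicate_succ, D_cons_congr h, D, D, D_replicate_congr h j, D_replicate_congr h j]

/-- Degree bounded and self-intersection bounded below, for any ample module. -/
theorem isBounded_of_sq [IsAlgClosed k] [IsIntegral X] {s : ℕ} (hd : topologicalKrullDim X = ((s + 2 : ℕ) : WithBot ℕ∞))
    {H : X.Modules} (hH : CohB1.IsAmple H) {P : X.Modules → Prop} (hP : ∀ L, P L → PicF.IsInvertible L) {B : ℚ}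
    (hB : ∀ L, P L → |D k (L :: List.replicate (s + 1) H) (Coh.structureModule X)| ≤ B ∧
      -B ≤ (-1 : ℚ) ^ s * D k (L :: L :: List.replicate s H) (Coh.structureModule X)) :
    Pic13.IsBounded k X P := by
  obtain ⟨n, d, i, hc, hd0, hi, hM⟩ := exists_emb (k := k) hH
  let p := Pol.ofEmb i
  have hHd := TMul.isInvertible_tensorPow hH.1 d
  have hlist : ∀ (j : ℕ) (l : List X.Modules), D k (l ++ List.replicate j p.M) (Coh.structureModule X) =
      D k (l ++ List.replicate j (CohB1.tensorPow H d)) (Coh.structureModule X) := fun j l => by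
    induction l generalizing j with
    | nil => exact D_replicate_congr hM j _
    | cons A l ih =>
      have h : ∀ F, D k (l ++ List.replicate j p.M) F = D k (l ++ List.replicate j (CohB1.tensorPow H d)) F := by
        intro F
        rw [D_perm k List.perm_append_comm, D_perm k (List.perm_append_comm (l₁ := l))]
        induction j generalizing F with
        | zero => rfl
        | succ j ihj =>
          rw [List.replicate_succ, List.replicate_succ, List.cons_append, List.cons_append, D_cons_congr hM, D, D,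
            ihj, ihj]
      rw [List.cons_append, List.cons_append, D, D, h, h]
  refine isBounded_of_topBd i hi hd hP (topBd_of_sqBd s k X p hd P hP ⟨((d : ℚ) ^ (s + 1) + (d : ℚ) ^ s) * B, fun L hL => ?_⟩)
  obtain ⟨h1, h2⟩ := hB L hL
  have hB0 : 0 ≤ B := (abs_nonneg _).trans h1
  have hLi := hP L hL
  have e1 : D k (L :: List.replicate (s + 1) p.M) (Coh.structureModule X) =
      (d : ℚ) ^ (s + 1) * D k (L :: List.replicate (s + 1) H) (Coh.structureModule X) := by
    rw [← List.singleton_append, hlist, D_perm k List.perm_append_comm,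
      D_replicate_pow hH.1 d hd.le (s + 1) [L] (by simpa using hLi) (by simp), D_perm k List.perm_append_comm]
    rfl
  have e2 : D k (L :: L :: List.replicate s p.M) (Coh.structureModule X) =
      (d : ℚ) ^ s * D k (L :: L :: List.replicate s H) (Coh.structureModule X) := by
    rw [show L :: L :: List.replicate s p.M = [L, L] ++ List.replicate s p.M from rfl, hlist,
      D_perm k List.perm_append_comm, D_replicate_pow hH.1 d hd.le s [L, L] (by simpa using hLi) (by simp),
      D_perm k List.perm_append_comm]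
    rfl
  have hds : (0 : ℚ) ≤ (d : ℚ) ^ s := by positivity
  have hds1 : (0 : ℚ) ≤ (d : ℚ) ^ (s + 1) := by positivity
  refine ⟨?_, ?_⟩
  · rw [deg, e1, abs_mul, abs_pow, abs_neg, abs_one, one_pow, one_mul, abs_mul, abs_of_nonneg hds1, add_mul]
    exact le_add_of_le_of_nonneg (mul_le_mul_of_nonneg_left h1 hds1) (mul_nonneg hds hB0)
  · rw [sq, e2, mul_left_comm, add_mul]
    have := mul_le_mul_of_nonneg_left h2 hds
    nlinarith [mul_nonneg hds1 hB0]

include k in
theorem exists_ample_twist {H L : X.Modules} (hH : CohB1.IsAmple H) (hL : PicF.IsInvertible L) :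
    ∃ n₀ : ℕ, ∀ n, n₀ ≤ n → CohB1.IsAmple (CohB1.tensorMod (CohB1.tensorPow H n) L) := by
  haveI := CurveRR.isNoetherian_of_proper k X
  have hc := CurveRR.isCoh_of_inv hL
  haveI : L.IsQuasicoherent := hc.1
  obtain ⟨n₀, h⟩ := TMul.eventually_isGloballyGenerated hH (F := L) hc.2
  refine ⟨n₀ + 1, fun n hn => ?_⟩
  obtain ⟨m, rfl⟩ := Nat.exists_eq_add_of_le' (show 1 ≤ n by omega)
  have hT := TMul.isInvertible_tensorMod hL (TMul.isInvertible_tensorPow hH.1 m)
  obtain ⟨c, t, ht⟩ := Nakai.exists_generatedBy k hT (h m (by omega))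
  obtain ⟨e⟩ := iso_of_cl (A := CohB1.tensorMod H (CohB1.tensorMod L (CohB1.tensorPow H m)))
    (B := CohB1.tensorMod (CohB1.tensorPow H (m + 1)) L) (by simp only [cl_tensor, cl_pow, pow_succ]; ac_rfl)
  refine TMul.isAmple_congr e (TMul.isAmple_tensorMod hH hT fun x => ?_)
  obtain ⟨j, hj⟩ := ProjMor.exists_mem_genLocus hT t ht x
  refine ⟨0, TMul.homOf (t j) ≫ (TMul.leftUnitIso _).inv, ?_⟩
  rw [TMul.genLocus_comp]
  exact hj

include k in
theorem isAmple_flat_tensor {A N : X.Modules} (hA : CohB1.IsAmple A) (hN : PicF.IsInvertible N) (hf : DegFlat k N) :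
    CohB1.IsAmple (CohB1.tensorMod A N) := by
  have hn : Nef k N := fun F hF hFd => by
    have h := hf F hF hFd
    rw [D_one, sub_eq_zero] at h
    exact le_of_eq (by exact_mod_cast h)
  obtain ⟨e⟩ := iso_of_cl (A := CohB1.tensorMod (CohB1.tensorPow N 1) (CohB1.tensorPow A 1)) (B := CohB1.tensorMod A N)
    (by simp only [cl_tensor, cl_pow, pow_one]; ac_rfl)
  exact TMul.isAmple_congr e (isAmple_nef_tensor k hA hN hn Nat.one_pos Nat.one_pos)

/-- A bounded family has uniformly ample twists. -/
theorem exists_twists_ample [IsAlgClosed k] {H : X.Modules} (hH : CohB1.IsAmple H) {P : X.Modules → Prop}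
    (hP : ∀ L, P L → PicF.IsInvertible L) (hb : Pic13.IsBounded k X P) :
    ∃ N : ℕ, ∀ L L' : X.Modules, P L → Nonempty (CohB1.tensorMod L L' ≅ Coh.structureModule X) →
      CohB1.IsAmple (CohB1.tensorMod (CohB1.tensorPow H N) L) ∧ CohB1.IsAmple (CohB1.tensorMod (CohB1.tensorPow H N) L') := by
  obtain ⟨q, A, hA, hrep⟩ := PicBdd.exists_reps k P hP hb
  choose A' hA' hAA' using fun j => W7Hull.exists_tensor_inverse (hA j)
  choose n hn using fun j => exists_ample_twist (k := k) hH (hA j)
  choose n' hn' using fun j => exists_ample_twist (k := k) hH (hA' j)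
  refine ⟨Finset.univ.sup n + Finset.univ.sup n', fun L L' hL hLL' => ?_⟩
  obtain ⟨j, N, hN, halg, ⟨e⟩⟩ := hrep L hL
  obtain ⟨N', hN', hNN'⟩ := W7Hull.exists_tensor_inverse hN
  have hf := PicBdd.degFlat_of_alg k halg
  have hf' := hf.inverse k hN' hNN'
  have hcl : PicF.cl L = PicF.cl (A j) * PicF.cl N := (PicGrp.cl_eq_cl_iff _ _).2 ⟨e⟩
  have hcl' : PicF.cl L' = PicF.cl (A' j) * PicF.cl N' := by
    have h1 : PicF.cl L * (PicF.cl (A' j) * PicF.cl N') = 1 := by
      rw [hcl]
      calc PicF.cl (A j) * PicF.cl N * (PicF.cl (A' j) * PicF.cl N') =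
          (PicF.cl (A j) * PicF.cl (A' j)) * (PicF.cl N * PicF.cl N') := by ac_rfl
        _ = 1 := by rw [cl_inv (hAA' j), cl_inv hNN', one_mul]
    calc PicF.cl L' = PicF.cl L' * (PicF.cl L * (PicF.cl (A' j) * PicF.cl N')) := by rw [h1, mul_one]
      _ = (PicF.cl L * PicF.cl L') * (PicF.cl (A' j) * PicF.cl N') := by ac_rfl
      _ = _ := by rw [cl_inv hLL', one_mul]
  have hs := Finset.le_sup (f := n) (Finset.mem_univ j)
  have hs' := Finset.le_sup (f := n') (Finset.mem_univ j)
  refine ⟨?_, ?_⟩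
  · obtain ⟨e₁⟩ := iso_of_cl (A := CohB1.tensorMod (CohB1.tensorMod (CohB1.tensorPow H (Finset.univ.sup n + Finset.univ.sup n')) (A j)) N)
      (B := CohB1.tensorMod (CohB1.tensorPow H (Finset.univ.sup n + Finset.univ.sup n')) L) (by simp only [cl_tensor, hcl, mul_assoc])
    exact TMul.isAmple_congr e₁ (isAmple_flat_tensor (k := k) (hn j _ (by omega)) hN hf)
  · obtain ⟨e₁⟩ := iso_of_cl (A := CohB1.tensorMod (CohB1.tensorMod (CohB1.tensorPow H (Finset.univ.sup n + Finset.univ.sup n')) (A' j)) N')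
      (B := CohB1.tensorMod (CohB1.tensorPow H (Finset.univ.sup n + Finset.univ.sup n')) L') (by simp only [cl_tensor, hcl', mul_assoc])
    exact TMul.isAmple_congr e₁ (isAmple_flat_tensor (k := k) (hn' j _ (by omega)) hN' hf')

/-- Uniformly ample twists bound the family. -/
theorem isBounded_of_twists_ample [IsAlgClosed k] [IsIntegral X] {H : X.Modules} (hH : CohB1.IsAmple H)
    {P : X.Modules → Prop} (hP : ∀ L, P L → PicF.IsInvertible L) (N : ℕ)
    (hN : ∀ L L' : X.Modules, P L → Nonempty (CohB1.tensorMod L L' ≅ Coh.structureModule X) →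
      CohB1.IsAmple (CohB1.tensorMod (CohB1.tensorPow H N) L) ∧ CohB1.IsAmple (CohB1.tensorMod (CohB1.tensorPow H N) L')) :
    Pic13.IsBounded k X P := by
  obtain ⟨r, hr⟩ : ∃ r : ℕ, topologicalKrullDim X = (r : WithBot ℕ∞) := by
    obtain ⟨d, hd⟩ := exists_dim_bound k (X := X)
    have hbot : topologicalKrullDim X ≠ ⊥ := fun hb => by
      rw [topologicalKrullDim, Order.krullDim_eq_bot_iff] at hb
      exact hb.elim' ⟨Set.univ, IrreducibleSpace.isIrreducible_univ X, isClosed_univ⟩
    match hq : topologicalKrullDim X, hbot, hd with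
    | ⊥, hbot, _ => exact absurd rfl hbot
    | (a : ℕ∞), _, hd =>
      match a, hd with
      | ⊤, hd => exact absurd (WithBot.coe_le_coe.1 hd) (by simp)
      | (r : ℕ), _ => exact ⟨r, rfl⟩
  -- positivity of lists of ample modules
  have hpos : ∀ l : List X.Modules, (∀ A ∈ l, CohB1.IsAmple A) → l.length = r →
      0 < (-1 : ℚ) ^ r * D k l (Coh.structureModule X) := fun l hl hlen => by
    subst hlen
    rw [D_get]
    exact alt_pos k _ l.get (fun i => hl _ (List.get_mem l i)) _ (Nakai.isCoh_one k) (dim_support_structure.trans hr)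
  have hHN := TMul.isInvertible_tensorPow hH.1 N
  match r, hr, hpos with
  | 0, hr, _ =>
    obtain ⟨n, d, i, hc, hd0, hi, hM⟩ := exists_emb (k := k) hH
    refine isBounded_of_valBd i hi hr hP fun m => ⟨(Curv2.euler k X (Coh.structureModule X)).natAbs, fun L hL => ?_⟩
    have h := D_top_eq (k := k) (r := 0) hr.le (l := []) (by simp) rfl
      (isInvertible_tH (Pol.ofEmb i).amp (hP L hL) m)
    simp only [D] at h
    have h' : Curv2.euler k X (tH (Pol.ofEmb i).M L m) = Curv2.euler k X (Coh.structureModule X) := by exact_mod_cast h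
    rw [h', Int.abs_eq_natAbs]
  | 1, hr, hpos =>
    obtain ⟨n, d, i, hc, hd0, hi, hM⟩ := exists_emb (k := k) hH
    let p := Pol.ofEmb i
    refine isBounded_of_valBd i hi hr hP fun m => ⟨⌈|(Curv2.euler k X (Coh.structureModule X) : ℚ)| +
      N * |deg k p 0 H| + m * |deg k p 0 p.M|⌉₊, fun L hL => ?_⟩
    obtain ⟨L', hL', hLL'⟩ := W7Hull.exists_tensor_inverse (hP L hL)
    obtain ⟨hA, hA'⟩ := hN L L' hL hLL'
    have hpow : deg k p 0 (CohB1.tensorPow H N) = N * deg k p 0 H := by
      simp only [deg, List.replicate_zero]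
      rw [D_pow k (Nakai.isCoh_one k) hH.1 (l := []) (by simp) (e := 1) rfl ((dim_support_structure (X := X)).le.trans hr.le) N]
      ring
    have hpos' : ∀ A, CohB1.IsAmple A → 0 < deg k p 0 A := fun A hA => by
      have := hpos [A] (by simpa using hA) rfl
      simpa [deg] using this
    have h1 := hpos' _ hA
    have h2 := hpos' _ hA'
    rw [deg_tensor p hr.le hHN (hP L hL), hpow] at h1
    rw [deg_tensor p hr.le hHN hL', hpow, deg_inv p hr.le (hP L hL) hL' (cl_inv hLL')] at h2
    have habs : |deg k p 0 L| ≤ N * |deg k p 0 H| := by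
      have h3 : (N : ℚ) * deg k p 0 H ≤ N * |deg k p 0 H| :=
        mul_le_mul_of_nonneg_left (le_abs_self _) (Nat.cast_nonneg N)
      exact abs_le.2 ⟨by linarith, by linarith⟩
    have e : |(Curv2.euler k X (tH p.M L m) : ℚ)| ≤
        |(Curv2.euler k X (Coh.structureModule X) : ℚ)| + N * |deg k p 0 H| + m * |deg k p 0 p.M| := by
      rw [euler_curve_eq p hr.le (isInvertible_tH p.amp (hP L hL) m), deg_tH p hr.le (hP L hL)]
      refine (abs_add_le _ _).trans ?_
      rw [add_assoc]
      refine add_le_add le_rfl ((abs_add_le _ _).trans (add_le_add habs ?_))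
      rw [abs_mul, Nat.abs_cast]
    exact_mod_cast e.trans (Nat.le_ceil _)
  | s + 2, hr, hpos =>
    let O := Coh.structureModule X
    let c := (-1 : ℚ) ^ s * D k (List.replicate (s + 2) H) O
    refine isBounded_of_sq hr hH hP (B := (N : ℚ) * |c| + 2 * N * ((N : ℚ) * |c|) + N * N * |c|) fun L hL => ?_
    obtain ⟨L', hL', hLL'⟩ := W7Hull.exists_tensor_inverse (hP L hL)
    obtain ⟨hA, hA'⟩ := hN L L' hL hLL'
    have hO := (dim_support_structure (X := X)).le.trans hr.le
    have hamp : ∀ (j : ℕ) (A : X.Modules), CohB1.IsAmple A → ∀ B ∈ List.replicate j A, CohB1.IsAmple B :=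
      fun j A hA B hB => by rw [List.eq_of_mem_replicate hB]; exact hA
    have hHl := mem_replicate_inv hH.1
    have hsgn : (-1 : ℚ) ^ (s + 2) = (-1) ^ s := by rw [pow_add]; norm_num
    -- degree
    let a := (-1 : ℚ) ^ s * D k (L :: List.replicate (s + 1) H) O
    have hlin : ∀ B, PicF.IsInvertible B → D k (CohB1.tensorMod (CohB1.tensorPow H N) B :: List.replicate (s + 1) H) O =
        (N : ℚ) * D k (List.replicate (s + 2) H) O + D k (B :: List.replicate (s + 1) H) O := fun B hB => by
      rw [D_tensor k (Nakai.isCoh_one k) hHN hB (hHl (s + 1)) (e := s + 2) (by simp) hO,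
        D_pow k (Nakai.isCoh_one k) hH.1 (hHl (s + 1)) (e := s + 2) (by simp) hO N, ← List.replicate_succ]
    have hinvL : D k (L' :: List.replicate (s + 1) H) O = -D k (L :: List.replicate (s + 1) H) O := by
      have h := D_tensor k (Nakai.isCoh_one k) (hP L hL) hL' (hHl (s + 1)) (e := s + 2) (by simp) hO
      rw [D_cons_congr (show PicF.cl (CohB1.tensorMod L L') = PicF.cl O from (cl_inv hLL').trans cl_one.symm),
        D_one_cons] at h
      linarith
    have p1 := hpos (_ :: List.replicate (s + 1) H)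
      (List.forall_mem_cons.2 ⟨hA, hamp _ _ hH⟩) (by simp)
    have p2 := hpos (_ :: List.replicate (s + 1) H)
      (List.forall_mem_cons.2 ⟨hA', hamp _ _ hH⟩) (by simp)
    rw [hsgn, hlin _ (hP L hL), mul_add, mul_left_comm] at p1
    rw [hsgn, hlin _ hL', hinvL, mul_add, mul_left_comm, mul_neg] at p2
    -- square
    have p3 := hpos (_ :: _ :: List.replicate s H)
      (List.forall_mem_cons.2 ⟨hA, List.forall_mem_cons.2 ⟨hA, hamp _ _ hH⟩⟩) (by simp)
    have q1 : D k (CohB1.tensorMod (CohB1.tensorPow H N) L :: L :: List.replicate s H) O =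
        (N : ℚ) * D k (L :: List.replicate (s + 1) H) O + D k (L :: L :: List.replicate s H) O := by
      rw [D_tensor k (Nakai.isCoh_one k) hHN (hP L hL) (mem_cons_inv (hP L hL) (hHl s)) (e := s + 2) (by simp) hO,
        D_pow k (Nakai.isCoh_one k) hH.1 (mem_cons_inv (hP L hL) (hHl s)) (e := s + 2) (by simp) hO N,
        D_perm k (List.Perm.swap L H _), ← List.replicate_succ]
    have q2 : D k (CohB1.tensorMod (CohB1.tensorPow H N) L :: CohB1.tensorMod (CohB1.tensorPow H N) L :: List.replicate s H) O =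
        (N : ℚ) * N * D k (List.replicate (s + 2) H) O + 2 * N * D k (L :: List.replicate (s + 1) H) O +
          D k (L :: L :: List.replicate s H) O := by
      have hA1 := TMul.isInvertible_tensorMod hHN (hP L hL)
      rw [D_tensor k (Nakai.isCoh_one k) hHN (hP L hL) (mem_cons_inv hA1 (hHl s)) (e := s + 2) (by simp) hO,
        D_pow k (Nakai.isCoh_one k) hH.1 (mem_cons_inv hA1 (hHl s)) (e := s + 2) (by simp) hO N,
        D_perm k (List.Perm.swap (CohB1.tensorMod (CohB1.tensorPow H N) L) H _), ← List.replicate_succ, hlin _ (hP L hL),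
        D_perm k (List.Perm.swap (CohB1.tensorMod (CohB1.tensorPow H N) L) L _), q1]
      ring
    rw [hsgn, q2, mul_add, mul_add] at p3
    have hN0 : (0 : ℚ) ≤ N := Nat.cast_nonneg N
    have hc := mul_le_mul_of_nonneg_left (le_abs_self c) hN0
    have ha : |a| ≤ N * |c| := abs_le.2 ⟨by linarith, by linarith⟩
    have hc2 := mul_le_mul_of_nonneg_left (le_abs_self c) (mul_nonneg hN0 hN0)
    have ha2 := mul_le_mul_of_nonneg_left ((le_abs_self a).trans ha) (show (0 : ℚ) ≤ 2 * N by linarith)
    have hc0 : 0 ≤ |c| := abs_nonneg c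
    refine ⟨?_, ?_⟩
    · have : |D k (L :: List.replicate (s + 1) H) O| = |a| := by
        simp only [a, abs_mul, abs_pow, abs_neg, abs_one, one_pow, one_mul]
      rw [this]
      nlinarith
    · simp only [a, c] at *
      nlinarith

end Groth.Agent.PicFin
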