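import Groth.Agent.PicFin.Cut
import Groth.Agent.Nakai.Kleiman
import Groth.Agent.PicBdd.NumBdd

/-!
Finite differences along the generic member, degrees, dimension zero.
-/

set_option autoImplicit false
set_option backward.isDefEq.respectTransparency false
set_option linter.style.haveILetI false
set_option linter.unusedSectionVars false

universe u

open CategoryTheory CategoryTheory.Limits AlgebraicGeometry TopologicalSpace
open Groth.Agent.Intersect Groth.Agent.Nakai

noncomputable section

namespace Groth.Agent.PicFin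

attribute [local instance] Nakai.clMonoid

variable {k : Type u} [Field k] {X : Scheme.{u}} [X.Over (Spec (CommRingCat.of k))]
  [IsProper (X ↘ Spec (CommRingCat.of k))]

theorem D_congr {l : List X.Modules} {A B : X.Modules} (h : PicF.cl A = PicF.cl B) : D k l A = D k l B :=
  (iso_of_cl h).elim fun e => D_iso k l e

theorem D_cons_congr {l : List X.Modules} {A B : X.Modules} (h : PicF.cl A = PicF.cl B) (F : X.Modules) :
    D k (A :: l) F = D k (B :: l) F :=
  (iso_of_cl h).elim fun e => by rw [D, D, D_iso k l (PicGrp.tensorModIso (Iso.refl F) e)]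

theorem mem_replicate_inv {A : X.Modules} (hA : PicF.IsInvertible A) (m : ℕ) :
    ∀ B ∈ List.replicate m A, PicF.IsInvertible B := fun B hB => by rw [List.eq_of_mem_replicate hB]; exact hA

/-- Finite differences commute with cutting. -/
theorem Cut.D_step {p : Pol X} {r : ℕ} (c : Cut k p r) :
    ∀ (l : List X.Modules), (∀ A ∈ l, PicF.IsInvertible A) → ∀ G : X.Modules, PicF.IsInvertible G →
      D k l (CohB1.tensorMod G p.M) - D k l G =
        D c.K (l.map (Scheme.Modules.pullback c.g).obj) ((Scheme.Modules.pullback c.g).obj (CohB1.tensorMod G p.M))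
  | [], _, G, hG => by
    simp only [List.map_nil, D]
    rw [c.euler G hG]
    push_cast
    ring
  | A :: l, hl, G, hG => by
    have hA := hl A List.mem_cons_self
    have hl' : ∀ B ∈ l, PicF.IsInvertible B := fun B hB => hl B (List.mem_cons_of_mem _ hB)
    have h1 := c.D_step l hl' G hG
    have h2 := c.D_step l hl' _ (TMul.isInvertible_tensorMod hG hA)
    rw [D_congr (l := l.map _) (show PicF.cl ((Scheme.Modules.pullback c.g).obj
        (CohB1.tensorMod (CohB1.tensorMod G A) p.M)) =
      PicF.cl (CohB1.tensorMod ((Scheme.Modules.pullback c.g).obj (CohB1.tensorMod G p.M))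
        ((Scheme.Modules.pullback c.g).obj A)) by
        rw [cl_tensor, cl_pull_tensor, cl_pull_tensor, cl_pull_tensor]; ac_rfl),
      D_congr (l := l) (show PicF.cl (CohB1.tensorMod (CohB1.tensorMod G A) p.M) =
        PicF.cl (CohB1.tensorMod (CohB1.tensorMod G p.M) A) by simp only [cl_tensor]; ac_rfl)] at h2
    simp only [List.map_cons, D]
    linarith

/-- In top degree the base point does not matter. -/
theorem D_top_eq {r : ℕ} (hd : topologicalKrullDim X ≤ (r : WithBot ℕ∞)) {l : List X.Modules}
    (hl : ∀ A ∈ l, PicF.IsInvertible A) (hlen : l.length = r) {G : X.Modules} (hG : PicF.IsInvertible G) :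
    D k l G = D k l (Coh.structureModule X) := by
  have h0 : D k (G :: l) (Coh.structureModule X) = 0 := by
    rw [D_cons_get]
    refine alt_eq_zero_of_dim k (Nakai.isCoh_one k) (isInvertible_cons hG (forall_get hl)) ?_
    refine lt_of_le_of_lt ((dim_support_structure (X := X)).le.trans hd) ?_
    exact_mod_cast (show r < l.length + 1 by omega)
  rw [D, sub_eq_zero] at h0
  rw [h0]
  exact D_congr (by rw [cl_tensor, cl_one, one_mul])

/-- The degree of `L` in dimension `r + 1`. -/
def deg (k : Type u) [Field k] {X : Scheme.{u}} [X.Over (Spec (CommRingCat.of k))] (p : Pol X) (r : ℕ)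
    (L : X.Modules) : ℚ :=
  (-1 : ℚ) ^ (r + 1) * D k (L :: List.replicate r p.M) (Coh.structureModule X)

theorem deg_tensor (p : Pol X) {r : ℕ} (hd : topologicalKrullDim X ≤ ((r + 1 : ℕ) : WithBot ℕ∞)) {A B : X.Modules}
    (hA : PicF.IsInvertible A) (hB : PicF.IsInvertible B) :
    deg k p r (CohB1.tensorMod A B) = deg k p r A + deg k p r B := by
  rw [deg, deg, deg, D_tensor k (Nakai.isCoh_one k) hA hB (mem_replicate_inv p.amp.1 r) (e := r + 1) (by simp)
    ((dim_support_structure (X := X)).le.trans hd), mul_add]

theorem deg_congr (p : Pol X) {r : ℕ} {A B : X.Modules} (h : PicF.cl A = PicF.cl B) : deg k p r A = deg k p r B := by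
  rw [deg, deg, D_cons_congr h]

theorem deg_one (p : Pol X) (r : ℕ) : deg k p r (Coh.structureModule X) = 0 := by
  rw [deg, D_one_cons, mul_zero]

theorem deg_inv (p : Pol X) {r : ℕ} (hd : topologicalKrullDim X ≤ ((r + 1 : ℕ) : WithBot ℕ∞)) {A B : X.Modules}
    (hA : PicF.IsInvertible A) (hB : PicF.IsInvertible B) (h : PicF.cl A * PicF.cl B = 1) :
    deg k p r B = -deg k p r A := by
  have := deg_tensor (k := k) p hd hA hB
  rw [deg_congr p (show PicF.cl (CohB1.tensorMod A B) = PicF.cl (Coh.structureModule X) by rw [cl_tensor, h, cl_one]),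
    deg_one] at this
  linarith

theorem deg_pos (p : Pol X) {r : ℕ} (hd : topologicalKrullDim X = ((r + 1 : ℕ) : WithBot ℕ∞)) :
    0 < deg k p r p.M := by
  have h := alt_pos k (r + 1) (fun _ => p.M) (fun _ => p.amp) _ (Nakai.isCoh_one k (X := X))
    (dim_support_structure.trans hd)
  rwa [← D_replicate, List.replicate_succ] at h

theorem Cut.deg_res {p : Pol X} {r : ℕ} (c : Cut k p (r + 1)) (hd : topologicalKrullDim X ≤ ((r + 2 : ℕ) : WithBot ℕ∞))
    {L : X.Modules} (hL : PicF.IsInvertible L) :
    deg c.K (p.pull c.g) r ((Scheme.Modules.pullback c.g).obj L) = deg k p (r + 1) L := by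
  have hl : ∀ A ∈ L :: List.replicate r p.M, PicF.IsInvertible A := fun A hA => by
    rcases List.mem_cons.1 hA with rfl | hA
    · exact hL
    · exact mem_replicate_inv p.amp.1 r A hA
  have h := c.D_step _ hl _ TMul.isInvertible_structureModule
  rw [D_top_eq (G := (Scheme.Modules.pullback c.g).obj (CohB1.tensorMod (Coh.structureModule X) p.M)) c.dim.le
    (fun A hA => by
      obtain ⟨B, hB, rfl⟩ := List.mem_map.1 hA
      exact PicLoc.isInvertible_pullback _ (hl B hB))
    (by simp) (PicLoc.isInvertible_pullback _ (TMul.isInvertible_tensorMod TMul.isInvertible_structureModule p.amp.1)),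
    List.map_cons, List.map_replicate] at h
  rw [deg, deg, List.replicate_succ, D_perm k (List.Perm.swap p.M L _),
    show D k (p.M :: L :: List.replicate r p.M) (Coh.structureModule X) = D k (L :: List.replicate r p.M) (Coh.structureModule X) -
      D k (L :: List.replicate r p.M) (CohB1.tensorMod (Coh.structureModule X) p.M) from rfl]
  change _ * D c.K (_ :: List.replicate r ((Scheme.Modules.pullback c.g).obj p.M)) _ = _
  rw [← h, pow_succ (-1 : ℚ) (r + 1)]
  ring

theorem euler_eq_h0_of_dim_zero {F : X.Modules} (hF : Coh.IsCoh F)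
    (hd : topologicalKrullDim (CohB1.support F) ≤ 0) : Curv2.euler k X F = CurveRR.h k F 0 := by
  haveI := CurveRR.isNoetherian_of_proper k X
  exact CurveRR.euler_eq_h0 fun i hi => SuppZero.subsingleton_hh_of_supported
    (Groth.Agent.QC.isClosed_support hF.2) hd _ (fun x hx => by
    by_contra h
    exact hx h) i hi

/-- An effective module has non-negative degree. -/
theorem deg_nonneg_of_section [IsIntegral X] (p : Pol X) {r : ℕ}
    (hd : topologicalKrullDim X = ((r + 1 : ℕ) : WithBot ℕ∞)) {L : X.Modules} (hL : PicF.IsInvertible L)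
    (h : CurveRR.h k L 0 ≠ 0) : 0 ≤ deg k p r L := by
  haveI := CurveRR.isNoetherian_of_proper k X
  obtain ⟨σ, hσ⟩ := CurveRR.exists_section (k := k) h
  haveI : Mono σ := CurveRR.mono_of_ne_zero TMul.isInvertible_structureModule hL σ hσ
  have hQ : Coh.IsCoh (cokernel σ) := Groth.Agent.QC.isCoh_cokernel (Nakai.isCoh_one k (X := X)).1
    (CurveRR.isCoh_of_inv hL) σ
  have hgen : genericPoint X ∈ CohB1.genLocus L σ := by
    obtain ⟨U, e, hηU, he⟩ := TMul.exists_isGen hL (genericPoint X)
    obtain ⟨c, hc⟩ := (he U le_rfl).2 (TMul.val σ U)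
    simp only [Groth.Agent.QC.res_self] at hc
    refine (TMul.mem_genLocus_iff_isUnit σ he hc.symm hηU).2 ((isUnit_iff_ne_zero (G₀ := X.functionField)).2 fun hz => ?_)
    haveI : Nonempty U := ⟨⟨_, hηU⟩⟩
    have hc0 : c = 0 := germ_injective_of_isIntegral X (genericPoint X) hηU (hz.trans (map_zero _).symm)
    have h0 : σ.app U (1 : Γ(X, U)) = 0 := by
      rw [TMul.app_eq_smul, ← hc, hc0]
      simp
    exact one_ne_zero (α := Γ(X, U)) (Groth.Agent.QC.app_injective_of_mono σ U (h0.trans (map_zero _).symm))
  have hQd : topologicalKrullDim (CohB1.support (cokernel σ)) ≤ (r : WithBot ℕ∞) := by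
    rw [support_coker_section hL σ]
    refine le_of_lt_succ' (dim_proper_lt (X := X) (ξ := genericPoint X) (n := r + 1) ?_
      (CohB1.genLocus L σ).isOpen.isClosed_compl (fun x _ => ?_) fun hg => hg hgen)
    · rw [genericPoint_closure]
      exact lt_succ_of_le' ((topologicalKrullDim_subspace_le _ _).trans hd.le)
    · rw [genericPoint_closure]
      trivial
  have h1 := alt_coker_section k hL σ (forall_get (mem_replicate_inv p.amp.1 r))
  have h2 := mix_nonneg k p.amp p.amp.1 0 (fun F hF hFd => ?_) r (cokernel σ) hQ (by simpa using hQd)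
  · rw [← D_cons_get, ← D_get] at h1
    simp only [List.replicate_zero, List.append_nil, Nat.add_zero] at h2
    rw [deg, pow_succ, h1]
    linarith
  · rw [pow_zero, one_mul, List.replicate_zero, D, euler_eq_h0_of_dim_zero hF (by simpa using hFd)]
    positivity

theorem h0_dim_zero (hd : topologicalKrullDim X ≤ 0) {L : X.Modules} (hL : PicF.IsInvertible L) :
    CurveRR.h k L 0 = CurveRR.h k (Coh.structureModule X) 0 := by
  have h := D_top_eq (k := k) (r := 0) (by simpa using hd) (l := []) (by simp) rfl hL
  simp only [D] at h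
  have h' : Curv2.euler k X L = Curv2.euler k X (Coh.structureModule X) := by exact_mod_cast h
  rw [euler_eq_h0_of_dim_zero (CurveRR.isCoh_of_inv hL) ((topologicalKrullDim_subspace_le _ _).trans hd),
    euler_eq_h0_of_dim_zero (Nakai.isCoh_one k) ((topologicalKrullDim_subspace_le _ _).trans hd)] at h'
  exact_mod_cast h'

end Groth.Agent.PicFin
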