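import Groth.Agent.PicFin.Vanish
import Groth.Agent.PicBdd.Hilb
import Groth.Agent.PicBdd.Universal
import Groth.Agent.PicBdd.Union
import Groth.Agent.ProjMor.PullSec
import Groth.Agent.S9576

/-!
Uniform vanishing and bounded values give bounded families; finite differences determine the twists.
-/

set_option autoImplicit false
set_option backward.isDefEq.respectTransparency false
set_option linter.style.haveILetI false
set_option linter.unusedSectionVars false

universe u

open CategoryTheory CategoryTheory.Limits AlgebraicGeometry TopologicalSpace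
open Groth.Agent.Intersect Groth.Agent.Nakai

noncomputable section

namespace Groth.Agent.PicFin

attribute [local instance] Nakai.clMonoid

variable (k : Type u) [Field k]

theorem X_mem {n : ℕ} (i : Fin (n + 1)) :
    (MvPolynomial.X i : MvPolynomial (Fin (n + 1)) k) ∈ CohB1.polyGrading n k 1 := MvPolynomial.isHomogeneous_X k i

/-- The coordinates on projective space. -/
def Pol.proj (n : ℕ) : Pol (CohB1.ProjSpace n k) where
  M := Twist.twistProjSpace n k 1
  amp := Intersect.isAmple_twistProj_one n k
  J := ULift.{u} (Fin (n + 1))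
  finJ := inferInstance
  s j := TMul.homOf (ProjMor.sec1 (X_mem k j.down))
  cov x := by
    obtain ⟨l, hl⟩ : ∃ l, x ∈ Proj.basicOpen (CohB1.polyGrading n k) (MvPolynomial.X l) :=
      Opens.mem_iSup.1 ((Groth.Agent.S9576.result n k).1.ge trivial)
    exact ⟨⟨l⟩, (ProjMor.genLocus_sec1 (ProjMor.genDegOne_projSpace n k) (X_mem k l)).ge hl⟩

variable {k} {X : Scheme.{u}} [X.Over (Spec (CommRingCat.of k))]

/-- The polarisation of an embedding. -/
abbrev Pol.ofEmb {n : ℕ} (i : X ⟶ CohB1.ProjSpace n k) [IsClosedImmersion i] : Pol X := (Pol.proj k n).pull i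

variable [IsProper (X ↘ Spec (CommRingCat.of k))]

theorem cl_twistOn_tH {n : ℕ} (i : X ⟶ CohB1.ProjSpace n k) [IsClosedImmersion i] (L : X.Modules) (a : ℕ) :
    PicF.cl (Pic13.twistOn k i L (a : ℤ)) = PicF.cl (tH (Pol.ofEmb i).M L a) := by
  rw [Nakai.cl_twistOn, cl_tH]
  rfl

/-- The values of the twists are determined by the first ones. -/
theorem euler_determined (p : Pol X) {r : ℕ} (hd : topologicalKrullDim X ≤ (r : WithBot ℕ∞)) {L L' : X.Modules}
    (hL : PicF.IsInvertible L) (hL' : PicF.IsInvertible L')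
    (h : ∀ j, j ≤ r → Curv2.euler k X (tH p.M L j) = Curv2.euler k X (tH p.M L' j)) :
    ∀ j, Curv2.euler k X (tH p.M L j) = Curv2.euler k X (tH p.M L' j) := by
  let g : ℕ → ℕ → ℚ := fun m j =>
    D k (List.replicate m p.M) (tH p.M L j) - D k (List.replicate m p.M) (tH p.M L' j)
  have hrec : ∀ m j, g (m + 1) j = g m j - g m (j + 1) := fun m j => by
    simp only [g, List.replicate_succ, D]
    rw [← D_congr (l := List.replicate m p.M) (cl_tH_succ p.M L j),
      ← D_congr (l := List.replicate m p.M) (cl_tH_succ p.M L' j)]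
    ring
  have hlow : ∀ m j, m + j ≤ r → g m j = 0 := by
    intro m
    induction m with
    | zero =>
      intro j hj
      simp only [g, List.replicate_zero, D, h j (by omega), sub_self]
    | succ m ih =>
      intro j hj
      rw [hrec, ih j (by omega), ih (j + 1) (by omega), sub_self]
  have htop : ∀ j, g r j = 0 := fun j => by
    simp only [g]
    rw [D_top_eq hd (mem_replicate_inv p.amp.1 r) (by simp) (isInvertible_tH p.amp hL j),
      D_top_eq hd (mem_replicate_inv p.amp.1 r) (by simp) (isInvertible_tH p.amp hL' j), sub_self]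
  have hall : ∀ t, t ≤ r → ∀ j, g (r - t) j = 0 := by
    intro t
    induction t with
    | zero => exact fun _ j => by simpa using htop j
    | succ t ih =>
      intro ht j
      have hm : r - t = r - (t + 1) + 1 := by omega
      induction j with
      | zero => exact hlow _ _ (by omega)
      | succ j ihj =>
        have := hrec (r - (t + 1)) j
        rw [← hm, ih (by omega) j, ihj] at this
        linarith
  intro j
  have := hall r le_rfl j
  simp only [g, Nat.sub_self, List.replicate_zero, D, sub_eq_zero] at this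
  exact_mod_cast this

variable {n : ℕ} (i : X ⟶ CohB1.ProjSpace n k) [IsClosedImmersion i]
  (hi : i ≫ CohB1.ProjSpace.toSpec n k = X ↘ Spec (CommRingCat.of k))

include hi in
/-- Bounded values and uniform vanishing: uniformly regular with finitely many Hilbert polynomials. -/
theorem regular_hilb_of_van {r : ℕ} (hd : topologicalKrullDim X ≤ (r : WithBot ℕ∞)) {P : X.Modules → Prop}
    (hP : ∀ L, P L → PicF.IsInvertible L) (hv : ValBd k (Pol.ofEmb i) P) (hw : Van k (Pol.ofEmb i) P) :
    (∃ m : ℤ, ∀ L, P L → Pic13.IsMRegular k i L m) ∧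
      ∃ s : Finset (Polynomial ℚ), ∀ L, P L → ∃ φ ∈ s, ∀ d : ℤ,
        (FGA.eulerCharLE k X (Pic13.twistOn k i L d) n : ℚ) = φ.eval (d : ℚ) := by
  classical
  let p := Pol.ofEmb i
  refine ⟨?_, ?_⟩
  · obtain ⟨n₀, h₀⟩ := hw
    refine ⟨(n₀ + n : ℕ), fun L hL => PicBdd.isMRegular_of_le k i hi (CurveRR.isCoh_of_inv (hP L hL)) _
      (fun q hq hqn => ?_) _ le_rfl⟩
    obtain ⟨q', rfl⟩ := Nat.exists_eq_add_of_le' hq
    have e : ((n₀ + n : ℕ) : ℤ) - ((q' + 1 : ℕ) : ℤ) = ((n₀ + n - (q' + 1) : ℕ) : ℤ) := by omega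
    rw [e]
    exact hh_congr (cl_twistOn_tH i L _).symm _ (subsingleton_of_h
      (CurveRR.isCoh_of_inv (isInvertible_tH p.amp (hP L hL) _)) (h₀ L hL _ (by omega) q'))
  · choose B hB using hv
    let Bmax := (Finset.range (r + 1)).sup B
    let box : Finset (Fin (r + 1) → ℤ) := Fintype.piFinset fun _ => Finset.Icc (-(Bmax : ℤ)) Bmax
    let val : X.Modules → Fin (r + 1) → ℤ := fun L j => Curv2.euler k X (tH p.M L j)
    let pol : (Fin (r + 1) → ℤ) → Polynomial ℚ := fun v =>
      if hv : ∃ L, P L ∧ val L = v then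
        (PicBdd.exists_hilbert_poly k i (CurveRR.isCoh_of_inv (hP _ hv.choose_spec.1))).choose else 0
    refine ⟨box.image pol, fun L hL => ⟨pol (val L), Finset.mem_image.2 ⟨_, ?_, rfl⟩, ?_⟩⟩
    · refine Fintype.mem_piFinset.2 fun j => Finset.mem_Icc.2 (abs_le.1 ((hB j L hL).trans ?_))
      exact_mod_cast Finset.le_sup (f := B) (Finset.mem_range.2 j.2)
    · have hex : ∃ L', P L' ∧ val L' = val L := ⟨L, hL, rfl⟩
      obtain ⟨hL'P, hL'v⟩ := hex.choose_spec
      simp only [pol, dif_pos hex]
      have hL'c := CurveRR.isCoh_of_inv (hP _ hL'P)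
      have hφ' := (PicBdd.exists_hilbert_poly k i hL'c).choose_spec
      obtain ⟨φ, hφ⟩ := PicBdd.exists_hilbert_poly k i (CurveRR.isCoh_of_inv (hP L hL))
      have hdet := euler_determined (k := k) p hd (hP _ hL'P) (hP L hL) fun j hj => congrFun hL'v ⟨j, by omega⟩
      have hpol : φ = (PicBdd.exists_hilbert_poly k i hL'c).choose :=
        Polynomial.eq_of_infinite_eval_eq _ _ (Set.infinite_of_injective_forall_mem
          (f := fun a : ℕ => (a : ℚ)) Nat.cast_injective fun a => by
            show φ.eval _ = _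
            rw [← Int.cast_natCast a, ← hφ, ← hφ', euler_congr k (cl_twistOn_tH i L a),
              euler_congr k (cl_twistOn_tH i _ a), hdet a])
      intro d
      rw [PicBdd.eulerCharLE_twistOn k i hi (CurveRR.isCoh_of_inv (hP L hL)), hφ d, hpol]

include hi in
/-- Bounded values on an integral scheme give a bounded family. -/
theorem isBounded_of_valBd [IsAlgClosed k] [IsIntegral X] {r : ℕ}
    (hd : topologicalKrullDim X = (r : WithBot ℕ∞)) {P : X.Modules → Prop}
    (hP : ∀ L, P L → PicF.IsInvertible L) (hv : ValBd k (Pol.ofEmb i) P) : Pic13.IsBounded k X P := by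
  classical
  obtain ⟨⟨m, hm⟩, s, hs⟩ := regular_hilb_of_van i hi hd.le hP hv (van_of_valBd r k X _ hd P hP hv)
  refine PicBdd.isBounded_mono k (PicBdd.isBounded_finset k s _ fun φ _ => PicBdd.isBounded_regular k i hi m φ)
    fun L hL => ?_
  obtain ⟨φ, hφ, h⟩ := hs L hL
  exact ⟨φ, hφ, CurveRR.isCoh_of_inv (hP L hL), hm L hL, h⟩

end Groth.Agent.PicFin
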