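import Groth.Agent.Nakai.UnifVanish

/-!
The first cohomology of successive twists drops strictly until it vanishes.
-/

set_option autoImplicit false
set_option backward.isDefEq.respectTransparency false
set_option linter.style.haveILetI false
set_option linter.unusedSectionVars false

universe u

open CategoryTheory CategoryTheory.Limits AlgebraicGeometry TopologicalSpace
open Groth.Agent.Intersect Groth.Agent.Nakai
open Groth.Agent.CohFinite (tmap shortExact_tmap hhMap)
open Groth.Agent.Horrocks (UnitAt mu tP)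

noncomputable section

namespace Groth.Agent.PicFin

attribute [local instance] Nakai.clMonoid

variable {X : Scheme.{u}} (k : Type u) [Field k] [X.Over (Spec (CommRingCat.of k))]
  [IsProper (X ↘ Spec (CommRingCat.of k))]

include k in
theorem h1_drop {H P : X.Modules} {r : ℕ} (hH : CohB1.IsAmple H) (hr : 0 < r)
    (hcr : PicF.cl H ^ r * PicF.cl P = 1) (hP : PicF.IsInvertible P) {R : X.Modules}
    (hR : Coh.IsCoh R) (φ : CohB1.tensorMod R P ⟶ R) [Mono φ] {l : List (P ⟶ Coh.structureModule X)}
    (hl : ∀ x : X, ∃ τ ∈ l, UnitAt τ x) {nQ : ℕ} {N : X.Modules} (hN : PicF.IsInvertible N)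
    (hnQ : ∀ n, nQ ≤ n → ∀ q, Subsingleton (Coh.HH X (CohB1.tensorMod (cokernel φ) (tH H N n)) (q + 1)))
    {n : ℕ} (hn : nQ + l.length * r ≤ n) :
    CurveRR.h k (CohB1.tensorMod R (tH H N (n + r))) 1 ≤ CurveRR.h k (CohB1.tensorMod R (tH H N n)) 1 ∧
      (CurveRR.h k (CohB1.tensorMod R (tH H N n)) 1 ≠ 0 →
        CurveRR.h k (CohB1.tensorMod R (tH H N (n + r))) 1 < CurveRR.h k (CohB1.tensorMod R (tH H N n)) 1) := by
  haveI := CurveRR.isNoetherian_of_proper k X
  let a : ℕ → ℕ := fun i => CurveRR.h k (CohB1.tensorMod R (tH H N (n + i * r))) 1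
  have hfin : ∀ i, Module.Finite k (Coh.HH X (CohB1.tensorMod R (tH H N i)) 1) := fun i =>
    CohFinite.finite_proper k X _ (isCoh_twist k hR (isInvertible_tH hH hN i)) 1
  have hfin' : ∀ i, Module.Finite k (Coh.HH X (CohB1.tensorMod (CohB1.tensorMod R P) (tH H N i)) 1) := fun i =>
    CohFinite.finite_proper k X _ (isCoh_twist k (isCoh_twist k hR hP) (isInvertible_tH hH hN i)) 1
  have hsurj : ∀ m, nQ ≤ m → Function.Surjective (hhMap k (tmap φ (tH H N m)) 1) := fun m hm =>
    surjective_f_of_subsingleton k (shortExact_tmap (isInvertible_tH hH hN m) (Devissage.cokSeq_shortExact φ)) 1 (hnQ m hm 0)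
  have hi : ∀ i, n + (i + 1) * r = n + i * r + r := fun i => by rw [Nat.succ_mul, Nat.add_assoc]
  have hmono : ∀ i, a (i + 1) ≤ a i := fun i => by
    simp only [a]
    rw [hi, ← h_congr k (tH_source hcr R N (n + i * r)) 1]
    haveI := hfin' (n + i * r + r)
    have h1 := LinearMap.finrank_range_le (hhMap k (tmap φ (tH H N (n + i * r + r))) 1)
    rw [LinearMap.range_eq_top.2 (hsurj _ (by omega)), finrank_top] at h1
    exact h1
  have hgood : ∀ i i', i ≤ i' → Good (cokernel.π φ) (tH H N (n + i * r + r)) →
      Good (cokernel.π φ) (tH H N (n + i' * r + r)) := fun i i' hii h => by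
    induction hii with
    | refl => exact h
    | @step i' hle ih =>
      rw [hi]
      refine Good.step (cokernel.π φ) hP hl _ (fun q hq hql => ?_) ?_
      · obtain ⟨q', rfl⟩ := Nat.exists_eq_add_of_le' hq
        have hqr : (q' + 1) * r ≤ l.length * r := Nat.mul_le_mul_right r hql
        refine hh_congr ?_ _ (hnQ (n + i' * r + r + r - (q' + 1 + 1) * r) ?_ q')
        · rw [cl_tP, cl_tensor, cl_tensor, mul_assoc]
          congr 1
          have e : n + i' * r + r + r = n + i' * r + r + r - (q' + 1 + 1) * r + r * (q' + 1 + 1) := by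
            have e1 : (q' + 1 + 1) * r = (q' + 1) * r + r := Nat.succ_mul _ _
            rw [Nat.mul_comm r]
            omega
          conv_rhs => rw [cl_tH, e, pow_add, pow_mul, mul_assoc (PicF.cl N), mul_assoc, ← mul_pow, hcr, one_pow, mul_one]
          rw [cl_tH]
        · have e1 : (q' + 1 + 1) * r = (q' + 1) * r + r := Nat.succ_mul _ _
          omega
      · exact Good.congr _ (iso_of_cl (by rw [cl_tensor, tH_shift hcr])).some ih
  have heq : ∀ i, a (i + 1) = a i → ∀ i', i ≤ i' → a (i' + 1) = a i' := fun i hai i' hii => by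
    simp only [a] at hai ⊢
    rw [hi, ← h_congr k (tH_source hcr R N (n + i * r)) 1] at hai
    rw [hi, ← h_congr k (tH_source hcr R N (n + i' * r)) 1]
    haveI := hfin' (n + i * r + r)
    haveI := hfin (n + i * r + r)
    have hinj := (LinearMap.injective_iff_surjective_of_finrank_eq_finrank hai.symm).2 (hsurj _ (by omega))
    have hg := hgood i i' hii (surjective_of_injective_h1 k (shortExact_tmap (isInvertible_tH hH hN (n + i * r + r)) (Devissage.cokSeq_shortExact φ)) hinj)
    have hinj' := injective_h1_of_surjective k (shortExact_tmap (isInvertible_tH hH hN (n + i' * r + r)) (Devissage.cokSeq_shortExact φ)) hg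
    exact (LinearEquiv.finrank_eq (LinearEquiv.ofBijective _ ⟨hinj', hsurj _ (by omega)⟩)).symm
  obtain ⟨n₀, h₀⟩ := CohFinite.vanish_ample (X ↘ Spec (CommRingCat.of k)) hH (isCoh_twist k hR hN)
  have hz : a n₀ = 0 := CurveRR.h_eq_zero (hh_congr
    (by rw [cl_tensor, cl_tensor, cl_tensor, cl_tH, cl_pow, mul_assoc]) _
    (h₀ (n + n₀ * r) ((Nat.le_mul_of_pos_right n₀ hr).trans (Nat.le_add_left _ _)) 0))
  have hdrop : ∀ i, a (i + 1) = a i → a i = 0 := fun i hai => by
    rcases le_or_gt i n₀ with hle | hlt
    · obtain ⟨d, rfl⟩ := Nat.exists_eq_add_of_le hle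
      have : ∀ d, a (i + d) = a i := fun d => by
        induction d with
        | zero => rfl
        | succ d ih => rw [← Nat.add_assoc, heq i hai _ (Nat.le_add_right _ _), ih]
      rw [← this d, hz]
    · obtain ⟨d, rfl⟩ := Nat.exists_eq_add_of_le hlt.le
      clear hai hlt
      induction d with
      | zero => exact hz
      | succ d ih => exact Nat.le_zero.1 ((hmono _).trans ih.le)
  have h01 := hmono 0
  simp only [a, Nat.zero_add, Nat.zero_mul, Nat.one_mul, Nat.add_zero] at h01 hdrop
  refine ⟨h01, fun hne => lt_of_le_of_ne h01 fun he => hne ?_⟩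
  simpa using hdrop 0 (by simpa using he)

end Groth.Agent.PicFin
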