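import Groth.Agent.Nakai.UnifVanish
import Groth.Agent.C1Cap.PullGen
import Groth.Agent.TMul.Pullback
import Groth.Agent.TMul.RelAmple

/-!
Generated ample modules, and dimension counts in long exact sequences.
-/

set_option autoImplicit false
set_option backward.isDefEq.respectTransparency false
set_option linter.style.haveILetI false
set_option linter.unusedSectionVars false

universe u

open CategoryTheory CategoryTheory.Limits AlgebraicGeometry TopologicalSpace
open Groth.Agent.Intersect Groth.Agent.Nakai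
open Groth.Agent.CohFinite (hhMap)

noncomputable section

namespace Groth.Agent.PicFin

attribute [local instance] Nakai.clMonoid

section LES

variable (k : Type u) [Field k] {X : Scheme.{u}} [X.Over (Spec (CommRingCat.of k))]
  [IsProper (X ↘ Spec (CommRingCat.of k))] {S : ShortComplex X.Modules} (hS : S.ShortExact)
  (h₁ : Coh.IsCoh S.X₁) (h₂ : Coh.IsCoh S.X₂) (h₃ : Coh.IsCoh S.X₃)

include hS h₁ h₂ h₃ in
theorem h_mid_le (q : ℕ) : CurveRR.h k S.X₂ q ≤ CurveRR.h k S.X₁ q + CurveRR.h k S.X₃ q := by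
  haveI := CohFinite.finite_proper k X _ h₁ q
  haveI := CohFinite.finite_proper k X _ h₂ q
  haveI := CohFinite.finite_proper k X _ h₃ q
  have e := (hhMap k S.g q).finrank_range_add_finrank_ker
  rw [← CurveRR.range_f_eq_ker_g hS q] at e
  have a := LinearMap.finrank_range_le (hhMap k S.f q)
  have b := Submodule.finrank_le (LinearMap.range (hhMap k S.g q))
  simp only [CurveRR.h] at *
  omega

include hS h₁ h₂ h₃ in
theorem h_first_le (q : ℕ) : CurveRR.h k S.X₁ (q + 1) ≤ CurveRR.h k S.X₂ (q + 1) + CurveRR.h k S.X₃ q := by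
  haveI := CohFinite.finite_proper k X _ h₁ (q + 1)
  haveI := CohFinite.finite_proper k X _ h₂ (q + 1)
  haveI := CohFinite.finite_proper k X _ h₃ q
  have e := (hhMap k S.f (q + 1)).finrank_range_add_finrank_ker
  rw [← CurveRR.range_δ_eq_ker_f hS q] at e
  have a := LinearMap.finrank_range_le (CohFinite.hhδ k hS q)
  have b := Submodule.finrank_le (LinearMap.range (hhMap k S.f (q + 1)))
  simp only [CurveRR.h] at *
  omega

include hS h₁ h₂ in
theorem h0_first_le : CurveRR.h k S.X₁ 0 ≤ CurveRR.h k S.X₂ 0 := by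
  haveI := CohFinite.finite_proper k X _ h₁ 0
  haveI := CohFinite.finite_proper k X _ h₂ 0
  exact LinearMap.finrank_le_finrank_of_injective (CurveRR.injective_f hS)

end LES

/-- An ample module with finitely many sections without common zero. -/
structure Pol (X : Scheme.{u}) where
  M : X.Modules
  amp : CohB1.IsAmple M
  J : Type u
  finJ : Fintype J
  s : J → (Coh.structureModule X ⟶ M)
  cov : ∀ x : X, ∃ j, x ∈ CohB1.genLocus M (s j)

attribute [instance] Pol.finJ

/-- Pullback along an affine morphism. -/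
def Pol.pull {X Z : Scheme.{u}} (p : Pol X) (g : Z ⟶ X) [IsAffineHom g] : Pol Z where
  M := (Scheme.Modules.pullback g).obj p.M
  amp := TMul.isAmple_pullback_of_isAffineHom g p.amp
  J := p.J
  finJ := p.finJ
  s j := (PicLoc.pullbackStructureIso g).inv ≫ (Scheme.Modules.pullback g).map (p.s j)
  cov x := (p.cov (g x)).imp fun j hj =>
    (TMul.genLocus_pullback g p.amp.1 (p.s j) (PicLoc.pullbackStructureIso g).symm).ge hj

theorem cl_pull_tH {X Z : Scheme.{u}} (g : Z ⟶ X) (M L : X.Modules) (n : ℕ) :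
    PicF.cl ((Scheme.Modules.pullback g).obj (tH M L n)) =
      PicF.cl (tH ((Scheme.Modules.pullback g).obj M) ((Scheme.Modules.pullback g).obj L) n) := by
  obtain ⟨e⟩ := TMul.nonempty_pullTensorIso g L (CohB1.tensorPow M n)
  obtain ⟨e'⟩ := TMul.nonempty_pullPowIso g M n
  exact ((PicGrp.cl_eq_cl_iff _ _).2 ⟨PicGrp.tensorModIso (Iso.refl _) e' ≪≫ e⟩).symm

theorem cl_pull_tensor {X Z : Scheme.{u}} (g : Z ⟶ X) (A B : X.Modules) :
    PicF.cl ((Scheme.Modules.pullback g).obj (CohB1.tensorMod A B)) =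
      PicF.cl ((Scheme.Modules.pullback g).obj A) * PicF.cl ((Scheme.Modules.pullback g).obj B) :=
  ((PicGrp.cl_eq_cl_iff _ _).2 (TMul.nonempty_pullTensorIso g A B)).symm

theorem cl_pull_one {X Z : Scheme.{u}} (g : Z ⟶ X) :
    PicF.cl ((Scheme.Modules.pullback g).obj (Coh.structureModule X)) = 1 :=
  (PicGrp.cl_eq_cl_iff _ _).2 ⟨PicLoc.pullbackStructureIso g⟩

theorem cl_pull_congr {X Z : Scheme.{u}} (g : Z ⟶ X) {A B : X.Modules} (h : PicF.cl A = PicF.cl B) :
    PicF.cl ((Scheme.Modules.pullback g).obj A) = PicF.cl ((Scheme.Modules.pullback g).obj B) :=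
  (iso_of_cl h).elim fun e => (PicGrp.cl_eq_cl_iff _ _).2 ⟨(Scheme.Modules.pullback g).mapIso e⟩

end Groth.Agent.PicFin
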