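import Groth.Agent.PicFin.Member
import Groth.Agent.PicFin.Pol
import Groth.Agent.PicFin.Drop
import Groth.Agent.W7Cech.FlatBCSep
import Groth.Agent.NegTwist.Basic
import Groth.Agent.CurveRR.TmapR
import Groth.Agent.Intersect.Apps

/-!
Cutting with the generic member: the numerical consequences.
-/

set_option autoImplicit false
set_option backward.isDefEq.respectTransparency false
set_option linter.style.haveILetI false
set_option linter.unusedSectionVars false

universe u

open CategoryTheory CategoryTheory.Limits AlgebraicGeometry TopologicalSpace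
open Groth.Agent.Intersect Groth.Agent.Nakai
open Groth.Agent.CohFinite (shortExact_tmap)

noncomputable section

namespace Groth.Agent.PicFin

attribute [local instance] Nakai.clMonoid

variable (k : Type u) [Field k] {X : Scheme.{u}} [X.Over (Spec (CommRingCat.of k))]
  [IsProper (X ↘ Spec (CommRingCat.of k))]

/-- The generic member of a generated ample system, with what it says about cohomology. -/
structure Cut (p : Pol X) (r : ℕ) where
  K : Type u
  [fld : Field K]
  Z : Scheme.{u}
  [ovr : Z.Over (Spec (CommRingCat.of K))]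
  [proper : IsProper (Z ↘ Spec (CommRingCat.of K))]
  [integral : IsIntegral Z]
  dim : topologicalKrullDim Z = (r : WithBot ℕ∞)
  g : Z ⟶ X
  [aff : IsAffineHom g]
  mid : ∀ G : X.Modules, PicF.IsInvertible G → ∀ q,
    CurveRR.h k (CohB1.tensorMod G p.M) q ≤
      CurveRR.h k G q + CurveRR.h K ((Scheme.Modules.pullback g).obj (CohB1.tensorMod G p.M)) q
  first : ∀ G : X.Modules, PicF.IsInvertible G → ∀ q,
    CurveRR.h k G (q + 1) ≤
      CurveRR.h k (CohB1.tensorMod G p.M) (q + 1) +
        CurveRR.h K ((Scheme.Modules.pullback g).obj (CohB1.tensorMod G p.M)) q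
  h0_mono : ∀ G : X.Modules, PicF.IsInvertible G → CurveRR.h k G 0 ≤ CurveRR.h k (CohB1.tensorMod G p.M) 0
  euler : ∀ G : X.Modules, PicF.IsInvertible G →
    Curv2.euler k X (CohB1.tensorMod G p.M) =
      Curv2.euler k X G + Curv2.euler K Z ((Scheme.Modules.pullback g).obj (CohB1.tensorMod G p.M))
  vanish : ∀ N : X.Modules, PicF.IsInvertible N → ∀ nQ : ℕ,
    (∀ n, nQ ≤ n → ∀ q, CurveRR.h K ((Scheme.Modules.pullback g).obj (tH p.M N n)) (q + 1) = 0) →
    ∀ n, nQ + Fintype.card p.J ≤ n →
      (∀ q, CurveRR.h k (tH p.M N n) (q + 2) = 0) ∧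
      CurveRR.h k (tH p.M N (n + 1)) 1 ≤ CurveRR.h k (tH p.M N n) 1 ∧
      (CurveRR.h k (tH p.M N n) 1 ≠ 0 → CurveRR.h k (tH p.M N (n + 1)) 1 < CurveRR.h k (tH p.M N n) 1)

attribute [instance] Cut.fld Cut.ovr Cut.proper Cut.integral Cut.aff

variable {k}

theorem exists_cut [IsIntegral X] (p : Pol X) {r : ℕ}
    (hdim : topologicalKrullDim X = ((r + 1 : ℕ) : WithBot ℕ∞)) : Nonempty (Cut k p r) := by
  classical
  haveI := CurveRR.isNoetherian_of_proper k X
  haveI : Nonempty p.J := ⟨(p.cov (Classical.arbitrary X)).choose⟩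
  let K := GenMember.RatF k p.J
  let Y := GenMember.XK k X p.J
  let π := GenMember.pr k X p.J
  haveI : IsIntegral Y := GenMember.isIntegral_XK k X p.J
  haveI := CurveRR.isNoetherian_of_proper K Y
  haveI : IsAffineHom π := MorphismProperty.pullback_fst _ _ inferInstance
  let MK := (Scheme.Modules.pullback π).obj p.M
  let σ := GenMember.gsec (k := k) p.s
  have hMK : PicF.IsInvertible MK := PicLoc.isInvertible_pullback π p.amp.1
  have hMA : CohB1.IsAmple MK := TMul.isAmple_pullback_of_isAffineHom π p.amp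
  obtain ⟨hne, hint, hZd⟩ := exists_integral_member (k := k) p.s p.amp.1 p.amp p.cov hdim
  let I := PicF2.zeroScheme MK σ
  haveI : IsIntegral I.subscheme := hint
  haveI : Mono σ := CurveRR.mono_of_ne_zero TMul.isInvertible_structureModule hMK σ hne
  obtain ⟨hEff, hinv⟩ := LefZero.isInverseOf_zeroScheme hMK σ
  have hP : PicF.IsInvertible (ClSub.idealMod I) := Intersect.isInvertible_ideal hEff
  have hMP : PicF.cl MK * PicF.cl (ClSub.idealMod I) = 1 := cl_inv hinv
  letI : I.subscheme.Over (Spec (CommRingCat.of K)) := ⟨I.subschemeι ≫ (Y ↘ Spec (CommRingCat.of K))⟩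
  haveI : IsProper (I.subscheme ↘ Spec (CommRingCat.of K)) := inferInstanceAs (IsProper (_ ≫ _))
  haveI : CompactSpace X := QuasiCompact.compactSpace_of_compactSpace (X ↘ Spec (CommRingCat.of k))
  haveI : X.IsSeparated := by
    constructor
    rw [← terminal.comp_from (X ↘ Spec (CommRingCat.of k))]
    infer_instance
  let g : I.subscheme ⟶ X := I.subschemeι ≫ π
  -- base change
  have hbc : ∀ F : X.Modules, Coh.IsCoh F → ∀ q, CurveRR.h K ((Scheme.Modules.pullback π).obj F) q = CurveRR.h k F q :=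
    fun F hF q => by
      obtain ⟨e⟩ := W7Cech.nonempty_hh_flatBC k K π (GenMember.isPullback_pr p.J) F hF.1 q
      rw [CurveRR.h, ← e.finrank_eq, Module.finrank_baseChange]
  have heu : ∀ F : X.Modules, Coh.IsCoh F → Curv2.euler K Y ((Scheme.Modules.pullback π).obj F) = Curv2.euler k X F :=
    fun F hF => S7673.result k X K F hF
  -- the member
  have hquot : ∀ G : X.Modules, PicF.IsInvertible G → ∀ q,
      CurveRR.h K ((Scheme.Modules.pullback g).obj G) q =
        CurveRR.h K (CohB1.tensorMod (ClSub.quotMod I) ((Scheme.Modules.pullback π).obj G)) q := fun G hG q => by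
    obtain ⟨j⟩ := Intersect.nonempty_quot_twist I ((Scheme.Modules.pullback π).obj G)
    haveI := (CurveRR.isCoh_of_inv (PicLoc.isInvertible_pullback I.subschemeι (PicLoc.isInvertible_pullback π hG))).1
    haveI : ((Scheme.Modules.pullback I.subschemeι).obj ((Scheme.Modules.pullback π).obj G)).IsQuasicoherent :=
      (CurveRR.isCoh_of_inv (PicLoc.isInvertible_pullback I.subschemeι (PicLoc.isInvertible_pullback π hG))).1
    obtain ⟨e⟩ := CohFinite.hh_push_linear K I.subschemeι rfl _
      (CohQC.directAcyclic_of_isAffineHom I.subschemeι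
        ((Scheme.Modules.pullback I.subschemeι).obj ((Scheme.Modules.pullback π).obj G))) q
    rw [CurveRR.h_eq_of_iso j q]
    exact (CurveRR.h_eq_of_iso (k := K) ((Scheme.Modules.pullbackComp I.subschemeι π).app G).symm q).trans e.finrank_eq
  have heq : ∀ G : X.Modules, PicF.IsInvertible G →
      Curv2.euler K I.subscheme ((Scheme.Modules.pullback g).obj G) =
        Curv2.euler K Y (CohB1.tensorMod (ClSub.quotMod I) ((Scheme.Modules.pullback π).obj G)) := fun G hG =>
    finsum_congr fun q => by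
      show (-1 : ℤ) ^ q * ((CurveRR.h K _ q : ℕ) : ℤ) = (-1 : ℤ) ^ q * ((CurveRR.h K _ q : ℕ) : ℤ)
      rw [hquot G hG q]
  -- the sequence
  have hseq : ∀ G : X.Modules, PicF.IsInvertible G → ∃ S : ShortComplex Y.Modules, S.ShortExact ∧
      Coh.IsCoh S.X₁ ∧ Coh.IsCoh S.X₂ ∧ Coh.IsCoh S.X₃ ∧
      PicF.cl S.X₁ = PicF.cl ((Scheme.Modules.pullback π).obj G) ∧
      PicF.cl S.X₂ = PicF.cl ((Scheme.Modules.pullback π).obj (CohB1.tensorMod G p.M)) ∧
      S.X₃ = CohB1.tensorMod (ClSub.quotMod I) ((Scheme.Modules.pullback π).obj (CohB1.tensorMod G p.M)) := by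
    intro G hG
    have hG' := PicLoc.isInvertible_pullback π (TMul.isInvertible_tensorMod hG p.amp.1)
    have hc := CurveRR.isCoh_of_inv hG'
    obtain ⟨hI, hQ⟩ := CurveRR.isCoh_idealMod I
    refine ⟨_, shortExact_tmap hG' (CurveRR.ideal_shortExact I), CurveRR.isCoh_tensor' hI hc,
      CurveRR.isCoh_tensor' (Nakai.isCoh_one K (X := Y)) hc, CurveRR.isCoh_tensor' hQ hc, ?_, ?_, rfl⟩
    · show PicF.cl (CohB1.tensorMod (ClSub.idealMod I) _) = _
      rw [cl_tensor, cl_pull_tensor, mul_left_comm, mul_comm (PicF.cl (ClSub.idealMod I)), hMP, mul_one]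
    · show PicF.cl (CohB1.tensorMod (Coh.structureModule Y) _) = _
      rw [cl_tensor, cl_one, one_mul]
  refine ⟨{ K := K, Z := I.subscheme, dim := hZd, g := g, mid := ?_, first := ?_, h0_mono := ?_, euler := ?_, vanish := ?_ }⟩
  · intro G hG q
    obtain ⟨S, hS, h1, h2, h3, e1, e2, e3⟩ := hseq G hG
    have hGM := TMul.isInvertible_tensorMod hG p.amp.1
    have := h_mid_le K hS h1 h2 h3 q
    rwa [h_congr K e1, h_congr K e2, hbc _ (CurveRR.isCoh_of_inv hG), hbc _ (CurveRR.isCoh_of_inv hGM), e3,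
      ← hquot _ hGM] at this
  · intro G hG q
    obtain ⟨S, hS, h1, h2, h3, e1, e2, e3⟩ := hseq G hG
    have hGM := TMul.isInvertible_tensorMod hG p.amp.1
    have := h_first_le K hS h1 h2 h3 q
    rwa [h_congr K e1, h_congr K e2, hbc _ (CurveRR.isCoh_of_inv hG), hbc _ (CurveRR.isCoh_of_inv hGM), e3,
      ← hquot _ hGM] at this
  · intro G hG
    obtain ⟨S, hS, h1, h2, -, e1, e2, -⟩ := hseq G hG
    have hGM := TMul.isInvertible_tensorMod hG p.amp.1
    have := h0_first_le K hS h1 h2
    rwa [h_congr K e1, h_congr K e2, hbc _ (CurveRR.isCoh_of_inv hG), hbc _ (CurveRR.isCoh_of_inv hGM)] at this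
  · intro G hG
    obtain ⟨S, hS, h1, h2, h3, e1, e2, e3⟩ := hseq G hG
    have hGM := TMul.isInvertible_tensorMod hG p.amp.1
    have := CurveRR.euler_add (k := K) hS h1 h2 h3
    rwa [euler_congr K e1, euler_congr K e2, heu _ (CurveRR.isCoh_of_inv hG), heu _ (CurveRR.isCoh_of_inv hGM), e3,
      ← heq _ hGM] at this
  · intro N hN nQ hnQ n hn
    let P := ClSub.idealMod I
    let R := Coh.structureModule Y
    let φ : CohB1.tensorMod R P ⟶ R := (TMul.leftUnitIso P).hom ≫ ClSub.idealModι I
    haveI : Mono (ClSub.idealModι I) := (CurveRR.ideal_shortExact I).mono_f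
    haveI : Mono φ := mono_comp _ _
    let c : cokernel φ ≅ ClSub.quotMod I := cokernelEpiComp _ _ ≪≫
      (cokernelIsCokernel (ClSub.idealModι I)).coconePointUniqueUpToIso (CurveRR.ideal_shortExact I).gIsCokernel
    let NK := (Scheme.Modules.pullback π).obj N
    have hNK : PicF.IsInvertible NK := PicLoc.isInvertible_pullback π hN
    have hcr : PicF.cl MK ^ 1 * PicF.cl P = 1 := by rw [pow_one]; exact hMP
    -- the maps to the structure sheaf
    obtain ⟨eP⟩ := iso_of_cl (A := CohB1.tensorMod P MK) (B := Coh.structureModule Y)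
      (by rw [cl_tensor, mul_comm, hMP, cl_one])
    choose τ hτ using fun j : p.J => NegTwist.exists_locus_map hMK eP
      ((PicLoc.pullbackStructureIso π).inv ≫ (Scheme.Modules.pullback π).map (p.s j))
    have hl : ∀ y : Y, ∃ t ∈ (Finset.univ : Finset p.J).toList.map τ, Horrocks.UnitAt t y := fun y => by
      obtain ⟨j, hj⟩ := p.cov (π y)
      refine ⟨τ j, List.mem_map.2 ⟨j, Finset.mem_toList.2 (Finset.mem_univ _), rfl⟩, fun D b hb hy => ?_⟩
      exact (hτ j D b hb y hy).1
        ((TMul.genLocus_pullback π p.amp.1 (p.s j) (PicLoc.pullbackStructureIso π).symm).ge hj)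
    have hlen : ((Finset.univ : Finset p.J).toList.map τ).length * 1 = Fintype.card p.J := by simp
    have hcl : ∀ m, PicF.cl (tH MK NK m) = PicF.cl ((Scheme.Modules.pullback π).obj (tH p.M N m)) := fun m =>
      (cl_pull_tH π p.M N m).symm
    have hinvt : ∀ m, PicF.IsInvertible (tH p.M N m) := isInvertible_tH p.amp hN
    have hcoh : ∀ m, Coh.IsCoh (tH p.M N m) := fun m => CurveRR.isCoh_of_inv (hinvt m)
    have hnQ' : ∀ m, nQ ≤ m → ∀ q,
        Subsingleton (Coh.HH Y (CohB1.tensorMod (cokernel φ) (tH MK NK m)) (q + 1)) := fun m hm q => by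
      have h0 := hnQ m hm q
      rw [hquot _ (hinvt m), ← h_congr K (show PicF.cl (CohB1.tensorMod (cokernel φ) (tH MK NK m)) =
        PicF.cl (CohB1.tensorMod (ClSub.quotMod I) ((Scheme.Modules.pullback π).obj (tH p.M N m))) by
          rw [cl_tensor, cl_tensor, hcl, (PicGrp.cl_eq_cl_iff _ _).2 ⟨c⟩])] at h0
      haveI := CohFinite.finite_proper K Y _ (CurveRR.isCoh_tensor'
        (Groth.Agent.QC.isCoh_cokernel (CurveRR.isCoh_tensor' (Nakai.isCoh_one K (X := Y))
          (CurveRR.isCoh_of_inv hP)).1 (Nakai.isCoh_one K (X := Y)) φ)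
        (CurveRR.isCoh_of_inv (isInvertible_tH hMA hNK m))) (q + 1)
      exact Module.finrank_zero_iff.1 h0
    have hRh : ∀ m q, CurveRR.h K (CohB1.tensorMod R (tH MK NK m)) q = CurveRR.h k (tH p.M N m) q := fun m q => by
      rw [← hbc _ (hcoh m) q]
      exact h_congr K (by rw [cl_tensor, cl_one, one_mul, hcl]) q
    refine ⟨fun q => ?_, ?_⟩
    · rw [← hRh]
      exact CurveRR.h_eq_zero (high_vanish K hMA Nat.one_pos hcr (Nakai.isCoh_one K (X := Y)) φ hNK hnQ'
        (le_trans (Nat.le_add_right _ _) hn) q)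
    · have := h1_drop K hMA Nat.one_pos hcr hP (Nakai.isCoh_one K (X := Y)) φ hl hNK hnQ' (n := n)
        (by rw [hlen]; exact hn)
      rw [← hRh n 1, ← hRh (n + 1) 1]
      exact this

end Groth.Agent.PicFin
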