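import Groth.Agent.PicFin.Bounded
import Groth.Agent.PicBdd.Reps
import Groth.Agent.GenMember.Apps
import Groth.Agent.AmpleEmb.Closed
import Groth.Agent.Nakai.AlgEquiv

/-!
Finitely many numerical classes: from uniform vanishing (after extending to an algebraic closure), and
upwards from the generic member by the Hodge index theorem.
-/

set_option autoImplicit false
set_option backward.isDefEq.respectTransparency false
set_option linter.style.haveILetI false
set_option linter.unusedSectionVars false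

universe u

open CategoryTheory CategoryTheory.Limits AlgebraicGeometry TopologicalSpace
open Groth.Agent.Intersect Groth.Agent.Nakai

noncomputable section

namespace Groth.Agent.PicFin

attribute [local instance] Nakai.clMonoid

section Defs

variable (k : Type u) [Field k] {X : Scheme.{u}} [X.Over (Spec (CommRingCat.of k))]

/-- Euler characteristics do not see a twist by `N`. -/
def Flat (N : X.Modules) : Prop :=
  ∀ F : X.Modules, Coh.IsCoh F → Curv2.euler k X (CohB1.tensorMod F N) = Curv2.euler k X F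

/-- Finitely many classes up to numerically trivial twists. -/
def NumFin (P : X.Modules → Prop) : Prop :=
  ∃ (q : ℕ) (A : Fin q → X.Modules), (∀ j, P (A j)) ∧ ∀ L, P L → ∃ (j : Fin q) (N : X.Modules),
    PicF.IsInvertible N ∧ Flat k N ∧ PicF.cl L = PicF.cl (A j) * PicF.cl N

/-- Bounded `s`-th differences of the values of the twists. -/
def TopBd (p : Pol X) (s : ℕ) (P : X.Modules → Prop) : Prop :=
  ∀ n : ℕ, ∃ B : ℚ, ∀ L, P L → |D k (List.replicate s p.M) (tH p.M L n)| ≤ B

end Defs

variable {k : Type u} [Field k] {X : Scheme.{u}} [X.Over (Spec (CommRingCat.of k))]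
  [IsProper (X ↘ Spec (CommRingCat.of k))]

theorem D_flat {N : X.Modules} (hN : Flat k N) : ∀ (l : List X.Modules), (∀ A ∈ l, PicF.IsInvertible A) →
    ∀ F : X.Modules, Coh.IsCoh F → D k l (CohB1.tensorMod F N) = D k l F
  | [], _, F, hF => by
    simp only [D]
    exact congrArg (fun z : ℤ => (z : ℚ)) (hN F hF)
  | A :: l, hl, F, hF => by
    have hl' : ∀ B ∈ l, PicF.IsInvertible B := fun B hB => hl B (List.mem_cons_of_mem _ hB)
    rw [D, D, D_flat hN l hl' F hF, D_congr (l := l) (show PicF.cl (CohB1.tensorMod (CohB1.tensorMod F N) A) =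
      PicF.cl (CohB1.tensorMod (CohB1.tensorMod F A) N) by simp only [cl_tensor]; ac_rfl),
      D_flat hN l hl' _ (isCoh_twist k hF (hl A List.mem_cons_self))]

theorem D_cons_flat {N : X.Modules} (hN : Flat k N) {l : List X.Modules} (hl : ∀ A ∈ l, PicF.IsInvertible A)
    {F : X.Modules} (hF : Coh.IsCoh F) : D k (N :: l) F = 0 := by
  rw [D, D_flat hN l hl F hF, sub_self]

theorem flat_of_degFlat {H : X.Modules} (hH : CohB1.IsAmple H) {N : X.Modules} (hN : PicF.IsInvertible N)
    (h : DegFlat k N) : Flat k N := fun F hF => by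
  obtain ⟨d, hd⟩ := exists_dim_bound k (X := X)
  exact (unif k hH d F hF ((topologicalKrullDim_subspace_le X _).trans hd)).1 N hN h

/-- Bounded values and uniform vanishing give finitely many numerical classes, over any field. -/
theorem numFin_of_van (p : Pol X) {r : ℕ} (hd : topologicalKrullDim X ≤ (r : WithBot ℕ∞)) {P : X.Modules → Prop}
    (hP : ∀ L, P L → PicF.IsInvertible L) (hv : ValBd k p P) (hw : Van k p P) : NumFin k P := by
  classical
  haveI := CurveRR.isNoetherian_of_proper k X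
  haveI : CompactSpace X := QuasiCompact.compactSpace_of_compactSpace (X ↘ Spec (CommRingCat.of k))
  haveI : X.IsSeparated := by
    constructor
    rw [← terminal.comp_from (X ↘ Spec (CommRingCat.of k))]
    infer_instance
  let K := AlgebraicClosure k
  let Y := Curv2.bc k X K
  letI : Y.Over (Spec (CommRingCat.of K)) := ⟨Curv2.bcSnd k X K⟩
  haveI : IsProper (Y ↘ Spec (CommRingCat.of K)) := inferInstanceAs (IsProper (Limits.pullback.snd _ _))
  let π : Y ⟶ X := Curv2.bcFst k X K
  haveI : IsAffineHom π := MorphismProperty.pullback_fst _ _ inferInstance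
  have hsq : IsPullback π (Y ↘ Spec (CommRingCat.of K)) (X ↘ Spec (CommRingCat.of k))
      (Spec.map (CommRingCat.ofHom (algebraMap k K))) := IsPullback.of_hasPullback _ _
  have hYd : topologicalKrullDim Y ≤ (r : WithBot ℕ∞) := (DimField.dim_eq_of_isPullback _ _ _ _ hsq).ge.trans hd
  have hbc : ∀ F : X.Modules, Coh.IsCoh F → ∀ q, CurveRR.h K ((Scheme.Modules.pullback π).obj F) q = CurveRR.h k F q :=
    fun F hF q => by
      obtain ⟨e⟩ := W7Cech.nonempty_hh_flatBC k K π hsq F hF.1 q
      rw [CurveRR.h, ← e.finrank_eq, Module.finrank_baseChange]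
  have heu : ∀ F : X.Modules, Coh.IsCoh F → Curv2.euler K Y ((Scheme.Modules.pullback π).obj F) = Curv2.euler k X F :=
    fun F hF => S7673.result k X K F hF
  obtain ⟨m, d, i, hd0, hi, hcl, ⟨e⟩⟩ := AmpleEmb.exists_closedImmersion_projSpace (Y ↘ Spec (CommRingCat.of K))
    (p.pull π).amp
  haveI := hcl
  let PY : Y.Modules → Prop := fun G => ∃ L, P L ∧ G = (Scheme.Modules.pullback π).obj L
  have hPY : ∀ G, PY G → PicF.IsInvertible G := by
    rintro _ ⟨L, hL, rfl⟩
    exact PicLoc.isInvertible_pullback _ (hP L hL)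
  have hcl' : ∀ L n, PicF.cl (tH (Pol.ofEmb i).M ((Scheme.Modules.pullback π).obj L) n) =
      PicF.cl ((Scheme.Modules.pullback π).obj (tH p.M L (d * n))) := fun L n => by
    rw [cl_pull_tH, cl_tH, cl_tH, show PicF.cl (Pol.ofEmb i).M = PicF.cl (p.pull π).M ^ d by
      rw [← cl_pow]; exact (PicGrp.cl_eq_cl_iff _ _).2 ⟨e⟩, ← pow_mul]
    rfl
  have hvY : ValBd K (Pol.ofEmb i) PY := fun n => by
    obtain ⟨B, hB⟩ := hv (d * n)
    refine ⟨B, ?_⟩
    rintro _ ⟨L, hL, rfl⟩
    rw [euler_congr K (hcl' L n), heu _ (CurveRR.isCoh_of_inv (isInvertible_tH p.amp (hP L hL) _))]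
    exact hB L hL
  have hwY : Van K (Pol.ofEmb i) PY := by
    obtain ⟨n₀, h₀⟩ := hw
    refine ⟨n₀, ?_⟩
    rintro _ ⟨L, hL, rfl⟩ n hn q
    rw [h_congr K (hcl' L n), hbc _ (CurveRR.isCoh_of_inv (isInvertible_tH p.amp (hP L hL) _))]
    exact h₀ L hL _ (hn.trans (Nat.le_mul_of_pos_left n hd0)) q
  obtain ⟨⟨m₀, hm⟩, s, hs⟩ := regular_hilb_of_van i hi hYd hPY hvY hwY
  have hb : Pic13.IsBounded K Y PY :=
    PicBdd.isBounded_mono K (PicBdd.isBounded_finset K s _ fun φ _ => PicBdd.isBounded_regular K i hi m₀ φ)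
      fun G hG => (hs G hG).imp fun φ hφ => ⟨hφ.1, CurveRR.isCoh_of_inv (hPY G hG), hm G hG, hφ.2⟩
  obtain ⟨q, A, hA, hrep⟩ := PicBdd.exists_reps K PY hPY hb
  let S := {j : Fin q // ∃ L, P L ∧ ∃ N : Y.Modules, Pic13.IsAlgEquivZero K Y N ∧
    Nonempty ((Scheme.Modules.pullback π).obj L ≅ CohB1.tensorMod (A j) N)}
  let eS := Fintype.equivFin S
  refine ⟨Fintype.card S, fun j => (eS.symm j).2.choose, fun j => (eS.symm j).2.choose_spec.1, fun L hL => ?_⟩
  obtain ⟨j, N₁, -, hN₁, ⟨e₁⟩⟩ := hrep _ ⟨L, hL, rfl⟩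
  let jS : S := ⟨j, L, hL, N₁, hN₁, ⟨e₁⟩⟩
  refine ⟨eS jS, ?_⟩
  simp only [Equiv.symm_apply_apply]
  obtain ⟨hL₀, N₀, hN₀, ⟨e₀⟩⟩ := jS.2.choose_spec
  set L₀ := jS.2.choose
  obtain ⟨L', hL', hLL'⟩ := W7Hull.exists_tensor_inverse (hP _ hL₀)
  refine ⟨CohB1.tensorMod L L', TMul.isInvertible_tensorMod (hP L hL) hL', fun F hF => ?_, ?_⟩
  · let G := (Scheme.Modules.pullback π).obj (CohB1.tensorMod F L')
    have hG : Coh.IsCoh G := Groth.Agent.QC.isCoh_pullback π (isCoh_twist k hF hL')
    have key : ∀ (L : X.Modules), P L → ∀ (N : Y.Modules), Pic13.IsAlgEquivZero K Y N →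
        ((Scheme.Modules.pullback π).obj L ≅ CohB1.tensorMod (A j) N) →
        Curv2.euler k X (CohB1.tensorMod (CohB1.tensorMod F L') L) = Curv2.euler K Y (CohB1.tensorMod G (A j)) :=
      fun L hL N hN e => by
        rw [← heu _ (isCoh_twist k (isCoh_twist k hF hL') (hP L hL)),
          ← euler_algEquivZero K hN (isCoh_twist K hG (hA j))]
        refine euler_congr K ?_
        rw [cl_pull_tensor, (PicGrp.cl_eq_cl_iff _ _).2 ⟨e⟩, cl_tensor, cl_tensor, cl_tensor, mul_assoc]
    rw [euler_congr k (show PicF.cl (CohB1.tensorMod F (CohB1.tensorMod L L')) =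
        PicF.cl (CohB1.tensorMod (CohB1.tensorMod F L') L) by simp only [cl_tensor]; ac_rfl),
      key L hL N₁ hN₁ e₁, ← key L₀ hL₀ N₀ hN₀ e₀]
    exact euler_congr k (by rw [cl_tensor, cl_tensor, mul_assoc, mul_comm (PicF.cl L'), cl_inv hLL', mul_one])
  · rw [cl_tensor, mul_left_comm, cl_inv hLL', mul_one]

theorem topBd_res {p : Pol X} {r s : ℕ} (c : Cut k p r) {P : X.Modules → Prop}
    (hP : ∀ L, P L → PicF.IsInvertible L) (h : TopBd k p (s + 1) P) :
    TopBd c.K (p.pull c.g) s (c.res P) := by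
  intro n
  obtain ⟨B, hB⟩ := h n
  refine ⟨B, ?_⟩
  rintro _ ⟨L, hL, rfl⟩
  have hi := isInvertible_tH p.amp (hP L hL) n
  have h1 := c.D_step _ (mem_replicate_inv p.amp.1 s) _ hi
  rw [List.map_replicate, D_congr (show PicF.cl ((Scheme.Modules.pullback c.g).obj (CohB1.tensorMod (tH p.M L n) p.M)) =
    PicF.cl (tH (p.pull c.g).M ((Scheme.Modules.pullback c.g).obj (CohB1.tensorMod L p.M)) n) by
      rw [← c.cl_res, cl_pull_congr c.g (cl_tH_succ p.M L n)])] at h1
  have h2 := hB L hL
  rw [List.replicate_succ, D, abs_sub_comm, h1] at h2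
  exact h2

/-- Climbing: finitely many classes on the member give finitely many classes on the scheme. -/
theorem numFin_of_res [IsIntegral X] {p : Pol X} {s : ℕ} (hd : topologicalKrullDim X = ((s + 3 : ℕ) : WithBot ℕ∞))
    (c : Cut k p (s + 2)) {P : X.Modules → Prop} (hP : ∀ L, P L → PicF.IsInvertible L)
    (h : NumFin c.K (c.res P)) : NumFin k P := by
  classical
  obtain ⟨q, A, hA, hAq⟩ := h
  choose Lj hLj hAj using hA
  refine ⟨q, Lj, hLj, fun L hL => ?_⟩
  obtain ⟨j, NZ, hNZi, hNZ, hcl⟩ := hAq _ ⟨L, hL, rfl⟩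
  obtain ⟨L', hL', hLL'⟩ := W7Hull.exists_tensor_inverse (hP _ (hLj j))
  let N := CohB1.tensorMod L L'
  have hN : PicF.IsInvertible N := TMul.isInvertible_tensorMod (hP L hL) hL'
  refine ⟨j, N, hN, ?_, by rw [cl_tensor, mul_left_comm, cl_inv hLL', mul_one]⟩
  let g := (Scheme.Modules.pullback c.g).obj
  have hclN : PicF.cl (g N) = PicF.cl NZ := by
    rw [hAj j, cl_pull_tensor, cl_pull_tensor] at hcl
    obtain ⟨M', -, hMM'⟩ := W7Hull.exists_tensor_inverse p.amp.1
    have hMc : PicF.cl (g p.M) * PicF.cl (g M') = 1 := by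
      rw [← cl_pull_tensor, ← cl_pull_one c.g]
      exact cl_pull_congr c.g ((cl_inv hMM').trans cl_one.symm)
    have hLc : PicF.cl (g (Lj j)) * PicF.cl (g L') = 1 := by
      rw [← cl_pull_tensor, ← cl_pull_one c.g]
      exact cl_pull_congr c.g ((cl_inv hLL').trans cl_one.symm)
    rw [cl_pull_tensor]
    calc PicF.cl (g L) * PicF.cl (g L') =
        PicF.cl (g L) * PicF.cl (g p.M) * (PicF.cl (g M') * PicF.cl (g L')) := by
          rw [mul_assoc (PicF.cl (g L)), ← mul_assoc (PicF.cl (g p.M)), hMc, one_mul]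
      _ = PicF.cl (g (Lj j)) * PicF.cl (g p.M) * PicF.cl NZ * (PicF.cl (g M') * PicF.cl (g L')) := by rw [hcl]
      _ = (PicF.cl (g (Lj j)) * PicF.cl (g L')) * (PicF.cl (g p.M) * PicF.cl (g M')) * PicF.cl NZ := by ac_rfl
      _ = PicF.cl NZ := by rw [hLc, hMc, one_mul, one_mul]
  have hflat : Flat c.K (g N) := fun F hF =>
    (euler_congr c.K (by rw [cl_tensor, cl_tensor, hclN])).trans (hNZ F hF)
  have hzero : ∀ l : List X.Modules, (∀ A ∈ l, PicF.IsInvertible A) →
      D k (p.M :: N :: l) (Coh.structureModule X) = 0 := fun l hl => by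
    have hl' : ∀ A ∈ N :: l, PicF.IsInvertible A := fun A hA => (List.mem_cons.1 hA).elim (· ▸ hN) (hl A)
    have h1 := c.D_step _ hl' _ TMul.isInvertible_structureModule
    rw [List.map_cons, D_cons_flat hflat (fun A hA => by
      obtain ⟨B, hB, rfl⟩ := List.mem_map.1 hA
      exact PicLoc.isInvertible_pullback _ (hl B hB))
      (CurveRR.isCoh_of_inv (PicLoc.isInvertible_pullback _
        (TMul.isInvertible_tensorMod TMul.isInvertible_structureModule p.amp.1)))] at h1
    rw [D]
    linarith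
  refine flat_of_degFlat p.amp hN (GenMember.degFlat_of_curves hN fun ξ hξ => ?_)
  refine GenMember.deg_eq_zero_of_irreducible (n := s + 1) hd p.amp hN ?_ (le_of_eq ?_) hξ
  · rw [List.replicate_succ, D_perm k (List.Perm.swap p.M N _)]
    exact hzero _ (mem_replicate_inv p.amp.1 _)
  · have hmem : ∀ A ∈ N :: List.replicate s p.M, PicF.IsInvertible A := fun A hA =>
      (List.mem_cons.1 hA).elim (· ▸ hN) (mem_replicate_inv p.amp.1 s A)
    rw [List.replicate_succ, D_perm k (((List.Perm.swap p.M N _).cons N).trans (List.Perm.swap p.M N _)),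
      hzero _ hmem, mul_zero]

/-- Bounded top differences give finitely many numerical classes. -/
theorem numFin_of_topBd : ∀ (s : ℕ) (k : Type u) [Field k] (X : Scheme.{u}) [X.Over (Spec (CommRingCat.of k))]
    [IsProper (X ↘ Spec (CommRingCat.of k))] [IsIntegral X] (p : Pol X),
    topologicalKrullDim X = ((s + 2 : ℕ) : WithBot ℕ∞) →
    ∀ P : X.Modules → Prop, (∀ L, P L → PicF.IsInvertible L) → TopBd k p s P → NumFin k P := by
  intro s
  induction s with
  | zero =>
    intro k _ X _ _ _ p hd P hP h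
    have hv : ValBd k p P := fun n => by
      obtain ⟨B, hB⟩ := h n
      refine ⟨⌈B⌉₊, fun L hL => ?_⟩
      have := (hB L hL).trans (Nat.le_ceil B)
      simp only [List.replicate_zero, D] at this
      exact_mod_cast this
    exact numFin_of_van p hd.le hP hv (van_of_valBd _ k X p hd P hP hv)
  | succ s ih =>
    intro k _ X _ _ _ p hd P hP h
    obtain ⟨c⟩ := exists_cut (k := k) p hd
    exact numFin_of_res hd c hP (ih c.K c.Z (p.pull c.g) c.dim _ (c.res_inv hP) (topBd_res c hP h))

end Groth.Agent.PicFin
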