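import Groth.Agent.GenMember.Hodge
import Groth.Agent.LefZero.Inverse
import Groth.Agent.ZeroSch.Basic
import Groth.Agent.NegTwist.Connected

/-!
The zero scheme of the generic section of a generated linear system is integral.
-/

set_option autoImplicit false
set_option backward.isDefEq.respectTransparency false
set_option linter.style.haveILetI false
set_option linter.unusedSectionVars false

universe u

open CategoryTheory CategoryTheory.Limits AlgebraicGeometry TopologicalSpace TensorProduct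
open Groth.Agent.Intersect Groth.Agent.GenMember
open TMul (IsGen val homOf val_homOf)
open Groth.Agent.QC (res res_res res_smul res_self)

noncomputable section

namespace Groth.Agent.PicFin

section Ring

variable {k : Type u} [Field k] {ι : Type u} [Fintype ι] {A : Type u} [CommRing A] [IsDomain A] [Algebra k A]
  [DecidableEq ι] {f : ι → A} {j : ι}

/-- The generic linear form with a unit coefficient is prime or a unit. -/
theorem span_lin_isPrime (hf : f j = 1)
    (h : Ideal.span {∑ i, (f i ⊗ₜ[k] (1 : RatF k ι)) * T i} ≠ (⊤ : Ideal (A ⊗[k] RatF k ι))) :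
    (Ideal.span {∑ i, (f i ⊗ₜ[k] (1 : RatF k ι)) * T i}).IsPrime := by
  letI := (toTensor (k := k) (A := A) (ι := ι)).toAlgebra
  haveI := isLocalization_toTensor (k := k) (A := A) (ι := ι)
  obtain ⟨τ, hτ⟩ := exists_change hf
  let ℓ : MvPolynomial ι A := ∑ i, MvPolynomial.C (f i) * MvPolynomial.X i
  have hℓ : algebraMap (MvPolynomial ι A) (A ⊗[k] RatF k ι) ℓ = ∑ i, (f i ⊗ₜ[k] (1 : RatF k ι)) * T i := by
    show toTensor ℓ = _
    simp [ℓ, toTensor, Algebra.TensorProduct.algebraMap_apply]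
  have hprime : Prime ℓ := by
    have h := (MulEquiv.prime_iff τ.toMulEquiv).2 (MvPolynomial.X_prime (R := A) (i := j))
    rwa [show τ.toMulEquiv (MvPolynomial.X j) = ℓ from hτ] at h
  haveI hI : (Ideal.span {ℓ}).IsPrime := (Ideal.span_singleton_prime hprime.ne_zero).2 hprime
  have hmap : (Ideal.span {ℓ}).map (algebraMap (MvPolynomial ι A) (A ⊗[k] RatF k ι)) =
      Ideal.span {∑ i, (f i ⊗ₜ[k] (1 : RatF k ι)) * T i} := by
    rw [Ideal.map_span, Set.image_singleton, hℓ]
  rw [← hmap] at h ⊢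
  exact IsLocalization.isPrime_of_isPrime_disjoint (nz k ι A) _ _ hI
    (((IsLocalization.map_algebraMap_ne_top_iff_disjoint (nz k ι A) (A ⊗[k] RatF k ι) _).1 h))

end Ring

variable {k : Type u} [Field k] {X : Scheme.{u}} [X.Over (Spec (CommRingCat.of k))]
  [IsProper (X ↘ Spec (CommRingCat.of k))] [IsIntegral X] {ι : Type u} [Fintype ι] [Nonempty ι]
  {M : X.Modules} (s : ι → (Coh.structureModule X ⟶ M)) (hM : PicF.IsInvertible M)

include hM in
/-- Over an affine open where a member is a frame the zero scheme is cut out by a prime, and has a single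
generic point, lying over that of `X`. -/
theorem chart {U : X.Opens} (hU : IsAffineOpen U) {j : ι} (hj : U ≤ CohB1.genLocus M (s j))
    {w : XK k X ι} (hw : w ∈ zeroSet (k := k) s) (hwU : pr k X ι w ∈ U) (hW : IsAffineOpen (pr k X ι ⁻¹ᵁ U)) :
    ((PicF2.zeroScheme _ (gsec (k := k) s)).ideal ⟨pr k X ι ⁻¹ᵁ U, hW⟩).IsPrime ∧
      ∃ P ∈ zeroSet (k := k) s, pr k X ι P = genericPoint X ∧
        ∀ w' ∈ zeroSet (k := k) s, pr k X ι w' ∈ U → P ⤳ w' := by
  classical
  haveI : Nonempty U := ⟨⟨_, hwU⟩⟩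
  letI := algU (k := k) hU
  obtain ⟨q, hq1, hq2, hqo, hqr⟩ := exists_chart (k := k) ι hU
  haveI := hqo
  obtain ⟨f, hfj, hf⟩ := exists_coord (k := k) s hM hU hj
  obtain ⟨z, rfl⟩ : w ∈ Set.range q := hqr ▸ hwU
  refine ⟨?_, ?_⟩
  · have heU : IsGen (val (s j) U) := by
      intro V hV
      have h' := TMul.isGen_genLocus (s j) V (hV.trans hj)
      simp only [TMul.res_val] at h' ⊢
      exact h'
    choose f hfs using fun i => (heU U le_rfl).2 (val (s i) U)
    simp only [res_self] at hfs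
    have hfj : f j = 1 := (heU U le_rfl).1 (by
      simp only [res_self]
      exact (hfs j).trans (one_smul _ _).symm)
    let W := pr k X ι ⁻¹ᵁ U
    let g : Γ(XK k X ι, W) :=
      ∑ i, Groth.Agent.QC.resO (XK k X ι) (le_top : W ≤ ⊤) (tt k X ι i) * (pr k X ι).app U (f i)
    have hval : val (gsec (k := k) s) W = g • ProjMor.eta (pr k X ι) M U (val (s j) U) := by
      rw [gsec, TMul.val_sum, Finset.sum_smul]
      exact Finset.sum_congr rfl fun i _ => val_term s (hfs i).symm
    rw [ZeroSch.ideal_zeroScheme_eq_span _ (PicLoc.isInvertible_pullback _ hM) ⟨W, hW⟩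
      (C1Cap.isGen_eta (pr k X ι) heU) hval]
    have hWr : W ≤ q.opensRange := fun y hy => by
      show y ∈ Set.range q
      rw [hqr]; exact hy
    have e1 : (⊤ : (Spec (CommRingCat.of (Γ(X, U) ⊗[k] RatF k ι))).Opens) ≤ q ⁻¹ᵁ W := fun z' _ => by
      show q z' ∈ (pr k X ι ⁻¹' (U : Set X))
      rw [← hqr]; exact ⟨z', rfl⟩
    haveI : IsIso (q.app W) := q.isIso_app W hWr
    haveI : IsIso (homOfLE e1) := ⟨homOfLE le_top, Subsingleton.elim _ _, Subsingleton.elim _ _⟩
    haveI : IsIso (q.appLE W ⊤ e1) := by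
      rw [Scheme.Hom.appLE]; infer_instance
    let φ : Γ(XK k X ι, W) ≃+* (Γ(X, U) ⊗[k] RatF k ι) :=
      (asIso (q.appLE W ⊤ e1) ≪≫ Scheme.ΓSpecIso (CommRingCat.of (Γ(X, U) ⊗[k] RatF k ι))).commRingCatIsoToRingEquiv
    let ℓ : Γ(X, U) ⊗[k] RatF k ι := ∑ i, (f i ⊗ₜ[k] (1 : RatF k ι)) * T i
    have hfU : ∀ a : Γ(X, U), q.appLE W ⊤ e1 ((pr k X ι).app U a) =
        (Scheme.ΓSpecIso _).inv (a ⊗ₜ[k] (1 : RatF k ι)) := fun a => by
      rw [← CommRingCat.comp_apply, Scheme.Hom.app_eq_appLE, Scheme.Hom.appLE_comp_appLE]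
      simp only [hq1]
      rw [← Scheme.Hom.appLE_comp_appLE _ hU.fromSpec U ⊤ ⊤ (by rw [hU.fromSpec_preimage_self]) le_top,
        CommRingCat.comp_apply]
      have h2 : hU.fromSpec.appLE U ⊤ (by rw [hU.fromSpec_preimage_self]) = (Scheme.ΓSpecIso Γ(X, U)).inv := by
        rw [Scheme.Hom.appLE, hU.fromSpec_app_self]
        simp [← Functor.map_comp]
      rw [h2, ← CommRingCat.comp_apply]
      rw [show (Spec.map (CommRingCat.ofHom (algebraMap Γ(X, U) (Γ(X, U) ⊗[k] RatF k ι)))).appLE ⊤ ⊤ le_top =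
        (Spec.map (CommRingCat.ofHom (algebraMap Γ(X, U) (Γ(X, U) ⊗[k] RatF k ι)))).appTop from
        ((Spec.map _).app_eq_appLE (U := ⊤)).symm, ← Scheme.ΓSpecIso_inv_naturality]
      rfl
    have htt : ∀ i, q.appLE W ⊤ e1 (Groth.Agent.QC.resO (XK k X ι) (le_top : W ≤ ⊤) (tt k X ι i)) =
        (Scheme.ΓSpecIso _).inv (T i) := fun i => by
      have h3 : q.appTop (tt k X ι i) = (Scheme.ΓSpecIso _).inv (T i) := by
        rw [tt, ← CommRingCat.comp_apply, ← Scheme.Hom.comp_appTop, hq2, ← CommRingCat.comp_apply,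
          ← Scheme.ΓSpecIso_inv_naturality]
        rfl
      rw [← h3]
      show (Scheme.Hom.appLE q W ⊤ e1) ((XK k X ι).presheaf.map (homOfLE (le_top : W ≤ ⊤)).op (tt k X ι i)) = _
      rw [← CommRingCat.comp_apply, Scheme.Hom.map_appLE, Scheme.Hom.appTop, Scheme.Hom.app_eq_appLE]
      rfl
    have hb : q.appLE W ⊤ e1 g = (Scheme.ΓSpecIso _).inv ℓ := by
      simp only [g, ℓ, map_sum, map_mul, hfU, htt]
      exact Finset.sum_congr rfl fun i _ => mul_comm _ _
    have hφg : φ g = ℓ := by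
      show (Scheme.ΓSpecIso _).hom (q.appLE W ⊤ e1 g) = ℓ
      rw [hb]
      exact (Scheme.ΓSpecIso _).inv_hom_id_apply _
    have hzW : q z ∈ W := hwU
    have hne : Ideal.span {ℓ} ≠ ⊤ := fun h => by
      refine hw ((TMul.mem_genLocus_iff_isUnit _ (C1Cap.isGen_eta (pr k X ι) heU) hval hzW).2 ?_)
      have hu : IsUnit g := by
        have := (Ideal.span_singleton_eq_top.1 h).map φ.symm
        rwa [← hφg, φ.symm_apply_apply] at this
      exact hu.map _
    have hp := span_lin_isPrime (k := k) hfj hne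
    haveI : (Ideal.span {φ g}).IsPrime := hφg ▸ hp
    have : Ideal.span {g} = (Ideal.span {φ g}).comap φ.toRingHom := by
      rw [show Ideal.comap φ.toRingHom (Ideal.span {φ g}) = Ideal.comap φ (Ideal.span {φ g}) from rfl,
        ← Ideal.map_symm, Ideal.map_span, Set.image_singleton, φ.symm_apply_apply]
    rw [this]
    exact Ideal.comap_isPrime _ _
  · obtain ⟨P, hP, hP0, hPmin⟩ := exists_min_prime hfj z ((hf q hq1 hq2 z).1 hw)
    refine ⟨q P, (hf q hq1 hq2 P).2 hP, pr_chart_bot (k := k) ι hU q hq1 P hP0, fun w' hw' hw'U => ?_⟩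
    obtain ⟨z', rfl⟩ : w' ∈ Set.range q := hqr ▸ hw'U
    exact ((PrimeSpectrum.le_iff_specializes P z').1 (hPmin z' ((hf q hq1 hq2 z').1 hw'))).map q.continuous

include hM in
theorem exists_integral_member (hA : CohB1.IsAmple M) (hcov : ∀ x : X, ∃ j, x ∈ CohB1.genLocus M (s j)) {r : ℕ}
    (hX : topologicalKrullDim X = ((r + 1 : ℕ) : WithBot ℕ∞)) [IsIntegral (XK k X ι)] :
    gsec (k := k) s ≠ 0 ∧ IsIntegral (PicF2.zeroScheme _ (gsec (k := k) s)).subscheme ∧
      topologicalKrullDim (PicF2.zeroScheme _ (gsec (k := k) s)).subscheme = (r : WithBot ℕ∞) := by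
  classical
  haveI := CurveRR.isNoetherian_of_proper (RatF k ι) (XK k X ι)
  haveI := jacobsonSpace_XK (k := k) (X := X) (ι := ι)
  let K := RatF k ι
  let Y := XK k X ι
  let p := pr k X ι
  haveI : IsAffineHom p := MorphismProperty.pullback_fst _ _ inferInstance
  have hMK : PicF.IsInvertible ((Scheme.Modules.pullback p).obj M) := PicLoc.isInvertible_pullback p hM
  have hMA : CohB1.IsAmple ((Scheme.Modules.pullback p).obj M) := TMul.isAmple_pullback_of_isAffineHom p hA
  obtain ⟨x₀⟩ := (inferInstance : Nonempty X)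
  obtain ⟨j₀, hj₀⟩ := hcov x₀
  obtain ⟨hgen, hne0⟩ := gsec_ne_zero (k := k) s hM hj₀
  refine ⟨hne0, ?_⟩
  let σ := gsec (k := k) s
  let I := PicF2.zeroScheme _ σ
  haveI : Mono σ := CurveRR.mono_of_ne_zero TMul.isInvertible_structureModule hMK σ hne0
  have hsupp : (I.support : Set Y) = zeroSet (k := k) s := NegTwist.coe_support_zeroScheme hMK σ
  have hrange : Set.range I.subschemeι = zeroSet (k := k) s := I.range_subschemeι.trans hsupp
  have hZc : IsClosed (zeroSet (k := k) s) := (CohB1.genLocus _ σ).isOpen.isClosed_compl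
  have hYd : topologicalKrullDim Y = ((r + 1 : ℕ) : WithBot ℕ∞) := dim_XK.trans hX
  have hne : (zeroSet (k := k) s).Nonempty := by
    by_contra h
    rw [Set.not_nonempty_iff_eq_empty] at h
    have hQ : Coh.IsCoh (cokernel σ) := Groth.Agent.QC.isCoh_cokernel (Nakai.isCoh_one K (X := Y)).1
      (CurveRR.isCoh_of_inv hMK) σ
    have h1 := alt_coker_section K hMK σ (M := fun _ : Fin r => (Scheme.Modules.pullback p).obj M) (fun _ => hMK)
    rw [alt_eq_zero_of_dim K hQ (fun _ => hMK)
      (by rw [support_coker_section hMK σ, show ((CohB1.genLocus _ σ : Set Y))ᶜ = ∅ from h, dim_empty]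
          exact bot_lt_iff_ne_bot.2 (by simp)), neg_zero] at h1
    have h2 := alt_pos K (r + 1) (fun _ => (Scheme.Modules.pullback p).obj M) (fun _ => hMA) _
      (Nakai.isCoh_one K (X := Y)) (dim_support_structure.trans hYd)
    rw [show (fun _ : Fin (r + 1) => (Scheme.Modules.pullback p).obj M) =
      Fin.cons ((Scheme.Modules.pullback p).obj M) (fun _ => (Scheme.Modules.pullback p).obj M) from
      funext fun i => by refine Fin.cases ?_ ?_ i <;> simp, h1, mul_zero] at h2
    exact lt_irrefl _ h2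
  have hch : ∀ w ∈ zeroSet (k := k) s, ∃ (U : X.Opens) (hW : IsAffineOpen (p ⁻¹ᵁ U)), p w ∈ U ∧
      (I.ideal ⟨p ⁻¹ᵁ U, hW⟩).IsPrime ∧
      ∃ P ∈ zeroSet (k := k) s, p P = genericPoint X ∧ ∀ w' ∈ zeroSet (k := k) s, p w' ∈ U → P ⤳ w' := fun w hw => by
    obtain ⟨j, hj⟩ := hcov (p w)
    obtain ⟨U, hU, hwU, hUj⟩ := exists_isAffineOpen_mem_and_subset (X := X) (x := p w) hj
    exact ⟨U, hU.preimage p, hwU, chart s hM hU hUj hw hwU (hU.preimage p)⟩
  obtain ⟨w₀, hw₀⟩ := hne
  obtain ⟨U₀, -, hw₀U, -, P, hPZ, hPη, hP⟩ := hch w₀ hw₀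
  have hall : ∀ w ∈ zeroSet (k := k) s, P ⤳ w := fun w hw => by
    obtain ⟨U, -, hwU, -, P', hP'Z, hP'η, hP'⟩ := hch w hw
    exact (hP P' hP'Z (by rw [hP'η]; exact (genericPoint_specializes _).mem_open U₀.isOpen hw₀U)).trans (hP' w hw hwU)
  have hcl : closure ({P} : Set Y) = zeroSet (k := k) s :=
    (closure_minimal (Set.singleton_subset_iff.2 hPZ) hZc).antisymm fun w hw => (hall w hw).mem_closure
  -- reduced
  haveI hred : IsReduced I.subscheme := by
    choose U hW hwU hprime _ using fun e : I.subscheme => hch (I.subschemeι e) (hrange.le ⟨e, rfl⟩)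
    let V : I.subscheme → Y.affineOpens := fun e => ⟨p ⁻¹ᵁ U e, hW e⟩
    haveI : ∀ e, IsReduced ((I.subschemeCover.f (V e)).opensRange : Scheme.{u}) := fun e => by
      haveI := hprime e
      haveI : (I.ideal (V e)).IsPrime := hprime e
      haveI : IsReduced (Spec (I.subschemeCover.X (V e))) :=
        inferInstanceAs (IsReduced (Spec (CommRingCat.of (Γ(Y, (V e).1) ⧸ I.ideal (V e)))))
      exact isReduced_of_isOpenImmersion (I.subschemeCover.f (V e)).isoOpensRange.inv
    have hcov' : TopologicalSpace.IsOpenCover fun e => (I.subschemeCover.f (V e)).opensRange :=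
      eq_top_iff.2 fun e _ => Opens.mem_iSup.2 ⟨e, by rw [I.opensRange_subschemeCover_map]; exact hwU e⟩
    haveI : ∀ e, IsReduced ((I.subscheme.openCoverOfIsOpenCover _ hcov').X e) := fun e =>
      (inferInstance : IsReduced ((I.subschemeCover.f (V e)).opensRange : Scheme.{u}))
    exact IsReduced.of_openCover _ (I.subscheme.openCoverOfIsOpenCover _ hcov')
  haveI hirr : IrreducibleSpace I.subscheme := by
    obtain ⟨P', hP'⟩ : P ∈ Set.range I.subschemeι := hrange.ge hPZ
    have hd : closure ({P'} : Set I.subscheme) = Set.univ := by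
      rw [I.subschemeι.isClosedEmbedding.isEmbedding.isInducing.closure_eq_preimage_closure_image,
        Set.image_singleton, hP', hcl, ← hrange, Set.preimage_range]
    haveI : PreirreducibleSpace I.subscheme := ⟨by rw [← hd]; exact isIrreducible_singleton.closure.2⟩
    exact { toNonempty := ⟨P'⟩ }
  refine ⟨isIntegral_of_irreducibleSpace_of_isReduced _, ?_⟩
  rw [IsHomeomorph.topologicalKrullDim_eq _ I.subschemeι.isClosedEmbedding.isEmbedding.toHomeomorph.isHomeomorph,
    hrange]
  refine le_antisymm ?_ ?_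
  · refine le_of_lt_succ' (dim_proper_lt (X := Y) (ξ := genericPoint Y) (n := r + 1) ?_ hZc (fun x _ => ?_) hgen)
    · rw [genericPoint_closure]
      exact lt_succ_of_le' ((topologicalKrullDim_subspace_le _ _).trans hYd.le)
    · rw [genericPoint_closure]
      trivial
  · obtain ⟨w, hw, hwc⟩ := hZc.exists_closed_singleton ⟨w₀, hw₀⟩
    obtain ⟨y, hy, -, hd⟩ := exists_high_generization s hM hX hw hwc
    exact hd.trans (dim_closure_le hZc hy)

end Groth.Agent.PicFin
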