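import Groth.Agent.PicFin.Finite
import Groth.Agent.Nakai.UnifReg

/-!
Numerical triviality is detected on an ample zero scheme with intersections of dimension at least two;
finitely many numerical classes form a bounded family on any projective scheme.
-/

set_option autoImplicit false
set_option backward.isDefEq.respectTransparency false
set_option linter.style.haveILetI false
set_option linter.unusedSectionVars false

universe u

open CategoryTheory CategoryTheory.Limits AlgebraicGeometry TopologicalSpace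
open Groth.Agent.Intersect Groth.Agent.Nakai
open Groth.Agent.CurveRR.Multi (lenAt)

noncomputable section

namespace Groth.Agent.PicFin

attribute [local instance] Nakai.clMonoid

variable {k : Type u} [Field k] {X : Scheme.{u}} [X.Over (Spec (CommRingCat.of k))]
  [IsProper (X ↘ Spec (CommRingCat.of k))]

/-- Intersection numbers on a piece do not see the embedding. -/
theorem piece_zero {Z : Scheme.{u}} [Z.Over (Spec (CommRingCat.of k))] [IsProper (Z ↘ Spec (CommRingCat.of k))]
    (g : Z ⟶ X) [IsClosedImmersion g] (hg : g ≫ (X ↘ Spec (CommRingCat.of k)) = Z ↘ Spec (CommRingCat.of k))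
    {l : List X.Modules} (hl : ∀ A ∈ l, PicF.IsInvertible A) {z : Z}
    (hz : topologicalKrullDim (closure ({g z} : Set X)) = (l.length : WithBot ℕ∞))
    (h : D k (l.map (Scheme.Modules.pullback g).obj) (Devissage.A z) = 0) : D k l (Devissage.A (g z)) = 0 := by
  haveI := CurveRR.isNoetherian_of_proper k X
  haveI := CurveRR.isNoetherian_of_proper k Z
  have hz' : topologicalKrullDim (closure ({z} : Set Z)) = (l.length : WithBot ℕ∞) := by
    rw [← hz, ← image_closure g z]
    exact IsHomeomorph.topologicalKrullDim_eq _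
      (g.isClosedEmbedding.isEmbedding.homeomorphImage (closure {z})).isHomeomorph
  let G := (Scheme.Modules.pushforward g).obj (Devissage.A z)
  have hA := Devissage.isCoh_A z
  have hG : Coh.IsCoh G := isCoh_push' g hA
  have hb := pushStalk_bijective_of_fibre g g.isClosedMap (Devissage.A z)
    (Groth.Agent.QC.isClosed_support hA.2) z fun w hw => g.isClosedEmbedding.injective hw.1
  have hmem : g z ∈ CohB1.support G := fun hs => by
    haveI : Nontrivial ((Devissage.A z).presheaf.stalk z) :=
      not_subsingleton_iff_nontrivial.1 (Devissage.piece_A z).mem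
    exact not_subsingleton ((Devissage.A z).presheaf.stalk z) (@Function.Surjective.subsingleton _ _ _ hs hb.2)
  have hGs : CohB1.support G ⊆ closure {g z} :=
    (support_push_subset g (g.isClosedMap _ isClosed_closure) (Devissage.support_A_subset z)).trans
      (image_closure g z).le
  obtain ⟨h1, h2⟩ := GenMember.D_single k hl hG hGs hmem hz
  rw [← D_push k g hg hl hA ((dim_mono (Devissage.support_A_subset z)).trans hz'.le), h] at h2
  have hne : (lenAt G (g z) : ℤ) ≠ 0 := by omega
  exact (mul_eq_zero.1 h2.symm).resolve_left (Int.cast_ne_zero.2 hne)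

/-- Modules supported in the subscheme do not see a twist flat on it. -/
theorem D_cons_zero_of_support {Z : Scheme.{u}} [Z.Over (Spec (CommRingCat.of k))]
    [IsProper (Z ↘ Spec (CommRingCat.of k))] (g : Z ⟶ X) [IsClosedImmersion g]
    (hg : g ≫ (X ↘ Spec (CommRingCat.of k)) = Z ↘ Spec (CommRingCat.of k))
    {L : X.Modules} (hL : PicF.IsInvertible L) (hf : Flat k ((Scheme.Modules.pullback g).obj L))
    {l : List X.Modules} (hl : ∀ A ∈ l, PicF.IsInvertible A) {F : X.Modules} (hF : Coh.IsCoh F)
    (hFs : CohB1.support F ⊆ Set.range g)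
    (hd : topologicalKrullDim (CohB1.support F) ≤ ((l.length + 1 : ℕ) : WithBot ℕ∞)) :
    D k (L :: l) F = 0 := by
  haveI := CurveRR.isNoetherian_of_proper k X
  haveI := CurveRR.isNoetherian_of_proper k Z
  have hl' : ∀ A ∈ L :: l, PicF.IsInvertible A := fun A hA => (List.mem_cons.1 hA).elim (· ▸ hL) (hl A)
  obtain ⟨T, hT⟩ := exists_top_finset k (d := (L :: l).length) hF (by simpa using hd)
  rw [D_get, alt_comp k F hF (by simpa using hd) (forall_get hl') T hT]
  refine Finset.sum_eq_zero fun w hw => mul_eq_zero_of_right _ ?_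
  obtain ⟨hwF, hwd⟩ := (hT w).1 hw
  obtain ⟨z, rfl⟩ := hFs hwF
  rw [← D_get]
  refine piece_zero g hg hl' hwd ?_
  rw [List.map_cons]
  exact D_cons_flat hf (fun A hA => by
    obtain ⟨B, hB, rfl⟩ := List.mem_map.1 hA
    exact PicLoc.isInvertible_pullback _ (hl B hB)) (Devissage.isCoh_A z)

theorem eq_zero_of_not_mem_genLocus [IsIntegral X] {L : X.Modules} (hL : PicF.IsInvertible L)
    (σ : Coh.structureModule X ⟶ L) (hσ : σ ≠ 0) : genericPoint X ∈ CohB1.genLocus L σ := by
  haveI : Mono σ := CurveRR.mono_of_ne_zero TMul.isInvertible_structureModule hL σ hσ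
  obtain ⟨U, e, hηU, he⟩ := TMul.exists_isGen hL (genericPoint X)
  obtain ⟨c, hc⟩ := (he U le_rfl).2 (TMul.val σ U)
  simp only [Groth.Agent.QC.res_self] at hc
  refine (TMul.mem_genLocus_iff_isUnit σ he hc.symm hηU).2
    ((isUnit_iff_ne_zero (G₀ := X.functionField)).2 fun hz => ?_)
  haveI : Nonempty U := ⟨⟨_, hηU⟩⟩
  have hc0 : c = 0 := germ_injective_of_isIntegral X (genericPoint X) hηU (hz.trans (map_zero _).symm)
  have h0 : σ.app U (1 : Γ(X, U)) = 0 := by
    rw [TMul.app_eq_smul, ← hc, hc0]
    simp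
  exact one_ne_zero (α := Γ(X, U)) (Groth.Agent.QC.app_injective_of_mono σ U (h0.trans (map_zero _).symm))

/-- Degree zero on the curves of an integral scheme from triviality on an ample zero scheme. -/
theorem curves_of_restrict [IsIntegral X] {H : X.Modules} (hH : CohB1.IsAmple H) (σ : Coh.structureModule X ⟶ H)
    (hσ : σ ≠ 0)
    (hdim : ∀ W ∈ irreducibleComponents ↥((CohB1.genLocus H σ : Set X)ᶜ), 2 ≤ topologicalKrullDim ↥W)
    {L : X.Modules} (hL : PicF.IsInvertible L)
    (hzero : ∀ (l : List X.Modules) (F : X.Modules), (∀ A ∈ l, A = L ∨ A = H) → Coh.IsCoh F →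
      CohB1.support F ⊆ (CohB1.genLocus H σ : Set X)ᶜ →
      topologicalKrullDim (CohB1.support F) ≤ ((l.length + 1 : ℕ) : WithBot ℕ∞) → D k (L :: l) F = 0)
    {ξ : X} (hξ : topologicalKrullDim (closure ({ξ} : Set X)) = ((1 : ℕ) : WithBot ℕ∞)) :
    D k [L] (Devissage.A ξ) = 0 := by
  haveI := CurveRR.isNoetherian_of_proper k X
  haveI : Mono σ := CurveRR.mono_of_ne_zero TMul.isInvertible_structureModule hH.1 σ hσ
  have hgen := eq_zero_of_not_mem_genLocus hH.1 σ hσ
  have hQ : Coh.IsCoh (cokernel σ) := Groth.Agent.QC.isCoh_cokernel (Nakai.isCoh_one k (X := X)).1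
    (CurveRR.isCoh_of_inv hH.1) σ
  have hQs := support_coker_section hH.1 σ
  obtain ⟨r, hr⟩ : ∃ r : ℕ, topologicalKrullDim X = ((r + 1 : ℕ) : WithBot ℕ∞) := by
    obtain ⟨d, hd⟩ := exists_dim_bound k (X := X)
    have h1 : ((1 : ℕ) : WithBot ℕ∞) ≤ topologicalKrullDim X := hξ.ge.trans (topologicalKrullDim_subspace_le X _)
    match hq : topologicalKrullDim X, h1, hd with
    | ⊥, h1, _ => exact absurd h1 (by simp)
    | (a : ℕ∞), h1, hd =>
      match a, h1, hd with
      | ⊤, _, hd => exact absurd (WithBot.coe_le_coe.1 hd) (by simp)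
      | (b : ℕ), h1, _ =>
        have hb : 1 ≤ b := CartierDim.natCast_le_withBot.1 h1
        refine ⟨b - 1, ?_⟩
        rw [Nat.sub_add_cancel hb]
        rfl
  have hsd : topologicalKrullDim (CohB1.support (cokernel σ)) ≤ (r : WithBot ℕ∞) := by
    rw [hQs]
    refine le_of_lt_succ' (dim_proper_lt (X := X) (ξ := genericPoint X) (n := r + 1) ?_
      (CohB1.genLocus H σ).isOpen.isClosed_compl (fun x _ => ?_) fun hg => hg hgen)
    · rw [genericPoint_closure]
      exact lt_succ_of_le' ((topologicalKrullDim_subspace_le _ _).trans hr.le)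
    · rw [genericPoint_closure]
      trivial
  have hne : ((CohB1.genLocus H σ : Set X)ᶜ).Nonempty := by
    by_contra h
    rw [Set.not_nonempty_iff_eq_empty] at h
    have h1 := alt_coker_section k hH.1 σ (M := fun _ : Fin r => H) (fun _ => hH.1)
    rw [alt_eq_zero_of_dim k hQ (fun _ => hH.1)
      (by rw [hQs, h, GenMember.dim_empty]; exact bot_lt_iff_ne_bot.2 (by simp)), neg_zero] at h1
    have h2 := alt_pos k (r + 1) (fun _ => H) (fun _ => hH) _ (Nakai.isCoh_one k (X := X))
      (dim_support_structure.trans hr)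
    rw [show (fun _ : Fin (r + 1) => H) = Fin.cons H (fun _ => H) from
      funext fun i => by refine Fin.cases ?_ ?_ i <;> simp, h1, mul_zero] at h2
    exact lt_irrefl _ h2
  have hr2 : 2 ≤ r := by
    obtain ⟨x, hx⟩ := hne
    let W := irreducibleComponent (⟨x, hx⟩ : ↥((CohB1.genLocus H σ : Set X)ᶜ))
    have h1 := (hdim W (irreducibleComponent_mem_irreducibleComponents _)).trans
      ((topologicalKrullDim_subspace_le _ W).trans ((hQs ▸ hsd : topologicalKrullDim ↥((CohB1.genLocus H σ : Set X)ᶜ) ≤ _)))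
    exact CartierDim.natCast_le_withBot.1 (show ((2 : ℕ) : WithBot ℕ∞) ≤ (r : WithBot ℕ∞) from h1)
  obtain ⟨s, rfl⟩ := Nat.exists_eq_add_of_le' hr2
  have hcut : ∀ l : List X.Modules, (∀ A ∈ l, A = L ∨ A = H) → l.length = s + 1 →
      D k (H :: L :: l) (Coh.structureModule X) = 0 := fun l hl hlen => by
    have hli : ∀ A ∈ l, PicF.IsInvertible A := fun A hA => (hl A hA).elim (· ▸ hL) (· ▸ hH.1)
    rw [D_cons_get, alt_coker_section k hH.1 σ (forall_get fun A hA => (List.mem_cons.1 hA).elim (· ▸ hL) (hli A)),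
      ← D_get, hzero l _ hl hQ hQs.le (by rw [hlen]; exact hsd), neg_zero]
  refine GenMember.deg_eq_zero_of_irreducible (n := s + 1) hr hH hL ?_ (le_of_eq ?_) hξ
  · rw [List.replicate_succ, D_perm k (List.Perm.swap H L _)]
    exact hcut _ (fun A hA => .inr (List.eq_of_mem_replicate hA)) (by simp)
  · rw [List.replicate_succ, D_perm k (((List.Perm.swap H L _).cons L).trans (List.Perm.swap H L _)),
      hcut _ (fun A hA => (List.mem_cons.1 hA).imp id fun h => List.eq_of_mem_replicate h) (by simp), mul_zero]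

/-- Degree zero everywhere from triviality on an ample zero scheme with intersections of dimension `≥ 2`. -/
theorem degFlat_of_restrict {H : X.Modules} (hH : CohB1.IsAmple H) (φ : Coh.structureModule X ⟶ H)
    (hdim : ∀ Z ∈ irreducibleComponents (X : Type u),
      ∀ W ∈ irreducibleComponents ↥(Z ∩ Set.range (PicF2.zeroScheme H φ).subschemeι.base), 2 ≤ topologicalKrullDim ↥W)
    {L : X.Modules} (hL : PicF.IsInvertible L)
    (hf : letI : (PicF2.zeroScheme H φ).subscheme.Over (Spec (CommRingCat.of k)) :=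
        ⟨(PicF2.zeroScheme H φ).subschemeι ≫ (X ↘ Spec (CommRingCat.of k))⟩
      Flat k ((Scheme.Modules.pullback (PicF2.zeroScheme H φ).subschemeι).obj L)) : DegFlat k L := by
  classical
  haveI := CurveRR.isNoetherian_of_proper k X
  let I := PicF2.zeroScheme H φ
  letI : I.subscheme.Over (Spec (CommRingCat.of k)) := ⟨I.subschemeι ≫ (X ↘ Spec (CommRingCat.of k))⟩
  haveI : IsProper (I.subscheme ↘ Spec (CommRingCat.of k)) := inferInstanceAs (IsProper (_ ≫ _))
  haveI := CurveRR.isNoetherian_of_proper k I.subscheme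
  have hrange : Set.range I.subschemeι = ((CohB1.genLocus H φ : Set X))ᶜ :=
    I.range_subschemeι.trans (NegTwist.coe_support_zeroScheme hH.1 φ)
  refine GenMember.degFlat_of_curves hL fun ξ hξ => ?_
  by_cases hξX : ξ ∈ Set.range I.subschemeι
  · obtain ⟨z, rfl⟩ := hξX
    refine piece_zero I.subschemeι rfl (l := [L]) (by simpa using hL) (by simpa using hξ) ?_
    rw [List.map_singleton]
    exact D_cons_flat hf (by simp) (Devissage.isCoh_A z)
  -- a component through the curve
  let Z₀ := irreducibleComponent ξ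
  have hZ₀ : Z₀ ∈ irreducibleComponents (X : Type u) := irreducibleComponent_mem_irreducibleComponents ξ
  have hZ₀c : IsClosed Z₀ := isClosed_irreducibleComponent
  obtain ⟨η, hη⟩ : ∃ η : X, closure ({η} : Set X) = Z₀ :=
    ⟨_, isIrreducible_irreducibleComponent.isGenericPoint_genericPoint hZ₀c⟩
  let Z := (Scheme.IdealSheafData.vanishingIdeal (Devissage.Zc η)).subscheme
  let ι : Z ⟶ X := Devissage.Zi η
  letI : Z.Over (Spec (CommRingCat.of k)) := ⟨ι ≫ (X ↘ Spec (CommRingCat.of k))⟩
  haveI : IsProper (Z ↘ Spec (CommRingCat.of k)) := inferInstanceAs (IsProper (ι ≫ _))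
  haveI : IsIntegral Z := Devissage.Zi_isIntegral η
  haveI := CurveRR.isNoetherian_of_proper k Z
  have hι : Set.range ι = Z₀ := (Devissage.range_Zi η).trans hη
  obtain ⟨z, hz⟩ : ξ ∈ Set.range ι := hι ▸ mem_irreducibleComponent
  let σ : Coh.structureModule Z ⟶ (Scheme.Modules.pullback ι).obj H :=
    (PicLoc.pullbackStructureIso ι).inv ≫ (Scheme.Modules.pullback ι).map φ
  haveI : CompactSpace X := hH.2.1
  have hHZ : CohB1.IsAmple ((Scheme.Modules.pullback ι).obj H) :=
    TMul.isAmple_pullback ι ι.isClosedEmbedding.isInducing hH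
  have hloc : CohB1.genLocus _ σ = ι ⁻¹ᵁ CohB1.genLocus H φ :=
    TMul.genLocus_pullback ι hH.1 φ (PicLoc.pullbackStructureIso ι).symm
  have hzg : z ∈ CohB1.genLocus _ σ := by
    rw [hloc]
    show ι z ∈ CohB1.genLocus H φ
    rw [hz]
    by_contra h
    exact hξX (hrange.ge h)
  have hσ : σ ≠ 0 := fun h0 => by
    rw [h0] at hzg
    obtain ⟨W, hzW, hW⟩ := (TMul.mem_genLocus_iff _).1 hzg
    haveI : Nonempty W := ⟨⟨_, hzW⟩⟩
    have hzero : TMul.val (0 : Coh.structureModule Z ⟶ (Scheme.Modules.pullback ι).obj H) W = 0 := rfl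
    refine one_ne_zero (α := Γ(Z, W)) ((hW W le_rfl).1 ?_)
    simp only [hzero, map_zero, smul_zero]
  have hξz : topologicalKrullDim (closure ({z} : Set Z)) = ((1 : ℕ) : WithBot ℕ∞) := by
    rw [← hξ, ← hz, ← image_closure ι z]
    exact IsHomeomorph.topologicalKrullDim_eq _
      (ι.isClosedEmbedding.isEmbedding.homeomorphImage (closure {z})).isHomeomorph
  rw [← hz]
  refine piece_zero ι rfl (l := [L]) (by simpa using hL) (by rw [hz]; simpa using hξ) ?_
  rw [List.map_singleton]
  refine curves_of_restrict (k := k) hHZ σ hσ ?_ (PicLoc.isInvertible_pullback ι hL) ?_ hξz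
  · -- the components of the intersection
    have hT : ι '' ((CohB1.genLocus _ σ : Set Z)ᶜ) = Z₀ ∩ Set.range I.subschemeι := by
      rw [hloc, hrange, ← hι]
      show ι '' (ι ⁻¹' ((CohB1.genLocus H φ : Set X)ᶜ)) = _
      rw [Set.image_preimage_eq_range_inter]
    let e : ↥((CohB1.genLocus _ σ : Set Z)ᶜ) ≃ₜ ↥(Z₀ ∩ Set.range I.subschemeι) :=
      (ι.isClosedEmbedding.isEmbedding.homeomorphImage _).trans (Homeomorph.setCongr hT)
    intro W hW
    have hW' : e '' W ∈ irreducibleComponents ↥(Z₀ ∩ Set.range I.subschemeι) :=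
      image_mem_irreducibleComponents_of_isPreirreducible_fiber e e.continuous e.isOpenMap
        (fun _ => (Set.subsingleton_singleton.preimage e.injective).isPreirreducible) e.surjective hW
    have h2 := hdim Z₀ hZ₀ _ hW'
    rwa [← IsHomeomorph.topologicalKrullDim_eq _ (e.isEmbedding.homeomorphImage W).isHomeomorph] at h2
  · intro l F hl hF hFs hFd
    let g := fun A : X.Modules => (Scheme.Modules.pullback ι).obj A
    obtain ⟨l₀, hl₀, rfl⟩ : ∃ l₀ : List X.Modules, (∀ A ∈ l₀, PicF.IsInvertible A) ∧ l₀.map g = l := by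
      clear hFd
      induction l with
      | nil => exact ⟨[], by simp, rfl⟩
      | cons A l ih =>
        obtain ⟨l₀, h₀, rfl⟩ := ih fun B hB => hl B (List.mem_cons_of_mem _ hB)
        rcases hl A List.mem_cons_self with rfl | rfl
        · exact ⟨L :: l₀, List.forall_mem_cons.2 ⟨hL, h₀⟩, rfl⟩
        · exact ⟨H :: l₀, List.forall_mem_cons.2 ⟨hH.1, h₀⟩, rfl⟩
    have hl' : ∀ A ∈ L :: l₀, PicF.IsInvertible A := List.forall_mem_cons.2 ⟨hL, hl₀⟩
    rw [List.length_map] at hFd
    have hT : IsClosed (ι '' CohB1.support F) :=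
      ι.isClosedEmbedding.isClosedMap _ (Groth.Agent.QC.isClosed_support hF.2)
    have hsup : CohB1.support ((Scheme.Modules.pushforward ι).obj F) ⊆ ι '' CohB1.support F :=
      support_push_subset ι hT subset_rfl
    rw [show g L :: l₀.map g = (L :: l₀).map g from rfl,
      D_push k ι rfl hl' hF (by simpa using hFd)]
    refine D_cons_zero_of_support I.subschemeι rfl hL hf hl₀ (isCoh_push' ι hF) (hsup.trans ?_)
      ((dim_mono hsup).trans ?_)
    · rintro _ ⟨w, hw, rfl⟩
      rw [hrange]
      exact fun hmem => hFs hw (hloc.ge hmem)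
    · rw [← IsHomeomorph.topologicalKrullDim_eq _ (ι.isClosedEmbedding.isEmbedding.homeomorphImage _).isHomeomorph]
      exact hFd

/-- Finitely many numerical classes form a bounded family. -/
theorem isBounded_of_numFin [IsAlgClosed k] {H : X.Modules} (hH : CohB1.IsAmple H) {P : X.Modules → Prop}
    (hP : ∀ L, P L → PicF.IsInvertible L) (h : NumFin k P) : Pic13.IsBounded k X P := by
  classical
  obtain ⟨n, d, i, -, hi, hcl, -⟩ := AmpleEmb.exists_closedImmersion_projSpace (X ↘ Spec (CommRingCat.of k)) hH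
  haveI := hcl
  obtain ⟨q, A, hA, hq⟩ := h
  have hAc := fun j => CurveRR.isCoh_of_inv (hP _ (hA j))
  choose m hm using fun j => Nakai.exists_regular k i hi (hAc j)
  choose φ hφ using fun j => PicBdd.exists_hilbert_poly k i (hAc j)
  refine PicBdd.isBounded_mono k (PicBdd.isBounded_finset k (Finset.univ : Finset (Fin q)) _
    fun j _ => PicBdd.isBounded_regular k i hi (m j : ℤ) (φ j)) fun L hL => ?_
  obtain ⟨j, N, hN, hf, hL'⟩ := hq L hL
  have hdf : DegFlat k N := fun F hF _ => D_cons_flat hf (by simp) hF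
  refine ⟨j, Finset.mem_univ j, CurveRR.isCoh_of_inv (hP L hL), fun p hp => ?_, fun t => ?_⟩
  · exact hh_congr (by rw [Pic13.twistOn, Pic13.twistOn, cl_tensor, cl_tensor, cl_tensor, hL']) _ (hm j N hN hdf p hp)
  · rw [PicBdd.eulerCharLE_twistOn k i hi (CurveRR.isCoh_of_inv (hP L hL)), ← hφ j t]
    have hT := isCoh_twist k (hAc j) (PicLoc.isInvertible_pullback i (CohFinite.isInvertible_twist n k t))
    rw [euler_congr k (show PicF.cl (Pic13.twistOn k i L t) = PicF.cl (CohB1.tensorMod (Pic13.twistOn k i (A j) t) N) by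
      rw [Pic13.twistOn, Pic13.twistOn, cl_tensor, cl_tensor, cl_tensor, hL']; ac_rfl)]
    exact congrArg _ (hf _ hT)

end Groth.Agent.PicFin
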