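import Groth.Agent.PicFin.Finite

/-!
Degree bounded and self-intersection bounded below control the top differences of the values.
-/

set_option autoImplicit false
set_option backward.isDefEq.respectTransparency false
set_option linter.style.haveILetI false
set_option linter.unusedSectionVars false

universe u

open CategoryTheory CategoryTheory.Limits AlgebraicGeometry TopologicalSpace
open Groth.Agent.Intersect Groth.Agent.Nakai

noncomputable section

namespace Groth.Agent.PicFin

attribute [local instance] Nakai.clMonoid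

/-- The self-intersection of `L` in dimension `s + 2`. -/
def sq (k : Type u) [Field k] {X : Scheme.{u}} [X.Over (Spec (CommRingCat.of k))] (p : Pol X) (s : ℕ)
    (L : X.Modules) : ℚ :=
  (-1 : ℚ) ^ s * D k (L :: L :: List.replicate s p.M) (Coh.structureModule X)

/-- Degree bounded and self-intersection bounded below. -/
def SqBd (k : Type u) [Field k] {X : Scheme.{u}} [X.Over (Spec (CommRingCat.of k))] (p : Pol X) (s : ℕ)
    (P : X.Modules → Prop) : Prop :=
  ∃ B : ℚ, ∀ L, P L → |deg k p (s + 1) L| ≤ B ∧ -B ≤ sq k p s L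

variable {k : Type u} [Field k] {X : Scheme.{u}} [X.Over (Spec (CommRingCat.of k))]
  [IsProper (X ↘ Spec (CommRingCat.of k))]

theorem mem_cons_inv {A : X.Modules} (hA : PicF.IsInvertible A) {l : List X.Modules}
    (hl : ∀ B ∈ l, PicF.IsInvertible B) : ∀ B ∈ A :: l, PicF.IsInvertible B := fun B hB =>
  (List.mem_cons.1 hB).elim (· ▸ hA) (hl B)

theorem D_two_tensor {s : ℕ} (p : Pol X) (hd : topologicalKrullDim X ≤ ((s + 2 : ℕ) : WithBot ℕ∞))
    {A B C : X.Modules} (hA : PicF.IsInvertible A) (hB : PicF.IsInvertible B) (hC : PicF.IsInvertible C) :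
    D k (C :: CohB1.tensorMod A B :: List.replicate s p.M) (Coh.structureModule X) =
      D k (C :: A :: List.replicate s p.M) (Coh.structureModule X) +
        D k (C :: B :: List.replicate s p.M) (Coh.structureModule X) := by
  rw [D_perm k (List.Perm.swap (CohB1.tensorMod A B) C _),
    D_tensor k (Nakai.isCoh_one k) hA hB (mem_cons_inv hC (mem_replicate_inv p.amp.1 s)) (e := s + 2) (by simp)
      ((dim_support_structure (X := X)).le.trans hd),
    D_perm k (List.Perm.swap C A _), D_perm k (List.Perm.swap C B _)]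

theorem sq_tensor {s : ℕ} (p : Pol X) (hd : topologicalKrullDim X ≤ ((s + 2 : ℕ) : WithBot ℕ∞))
    {A : X.Modules} (hA : PicF.IsInvertible A) :
    sq k p s (CohB1.tensorMod A p.M) = sq k p s A + 2 * deg k p (s + 1) A + deg k p (s + 1) p.M := by
  have hT := TMul.isInvertible_tensorMod hA p.amp.1
  simp only [sq, deg, List.replicate_succ]
  rw [D_two_tensor p hd hA p.amp.1 hT, D_perm k (List.Perm.swap A (CohB1.tensorMod A p.M) _),
    D_two_tensor p hd hA p.amp.1 hA, D_perm k (List.Perm.swap p.M (CohB1.tensorMod A p.M) _),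
    D_two_tensor p hd hA p.amp.1 p.amp.1, D_perm k (List.Perm.swap A p.M _)]
  ring

theorem sq_tH {s : ℕ} (p : Pol X) (hd : topologicalKrullDim X ≤ ((s + 2 : ℕ) : WithBot ℕ∞)) {L : X.Modules}
    (hL : PicF.IsInvertible L) : ∀ n : ℕ, sq k p s (tH p.M L n) =
      sq k p s L + 2 * n * deg k p (s + 1) L + n * n * deg k p (s + 1) p.M
  | 0 => by
    have h : PicF.cl (tH p.M L 0) = PicF.cl L := by rw [cl_tH, pow_zero, mul_one]
    rw [sq, D_cons_congr h, D_perm k (List.Perm.swap (tH p.M L 0) L _), D_cons_congr h]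
    simp [sq]
  | n + 1 => by
    have h := cl_tH_succ p.M L n
    have hT : sq k p s (tH p.M L (n + 1)) = sq k p s (CohB1.tensorMod (tH p.M L n) p.M) := by
      rw [sq, sq, D_cons_congr h, D_perm k (List.Perm.swap (tH p.M L (n + 1)) _ _), D_cons_congr h]
    rw [hT, sq_tensor p hd (isInvertible_tH p.amp hL n), sq_tH p hd hL n, deg_tH p hd hL n]
    push_cast
    ring

theorem Cut.sq_res {p : Pol X} {s : ℕ} (c : Cut k p (s + 2)) (hd : topologicalKrullDim X ≤ ((s + 3 : ℕ) : WithBot ℕ∞))
    {L : X.Modules} (hL : PicF.IsInvertible L) :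
    sq c.K (p.pull c.g) s ((Scheme.Modules.pullback c.g).obj L) = sq k p (s + 1) L := by
  have hl := mem_cons_inv hL (mem_cons_inv hL (mem_replicate_inv p.amp.1 s))
  have h := c.D_step _ hl _ TMul.isInvertible_structureModule
  rw [D_top_eq (G := (Scheme.Modules.pullback c.g).obj (CohB1.tensorMod (Coh.structureModule X) p.M)) c.dim.le
    (fun A hA => by
      obtain ⟨B, hB, rfl⟩ := List.mem_map.1 hA
      exact PicLoc.isInvertible_pullback _ (hl B hB))
    (by simp) (PicLoc.isInvertible_pullback _ (TMul.isInvertible_tensorMod TMul.isInvertible_structureModule p.amp.1)),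
    List.map_cons, List.map_cons, List.map_replicate] at h
  rw [sq, sq, List.replicate_succ, D_perm k (((List.Perm.swap p.M L _).cons L).trans (List.Perm.swap p.M L _)),
    show D k (p.M :: L :: L :: List.replicate s p.M) (Coh.structureModule X) =
      D k (L :: L :: List.replicate s p.M) (Coh.structureModule X) -
        D k (L :: L :: List.replicate s p.M) (CohB1.tensorMod (Coh.structureModule X) p.M) from rfl]
  change _ * D c.K (_ :: _ :: List.replicate s ((Scheme.Modules.pullback c.g).obj p.M)) _ = _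
  rw [← h, pow_succ]
  ring

theorem Cut.sqBd_res {p : Pol X} {s : ℕ} (c : Cut k p (s + 2))
    (hd : topologicalKrullDim X ≤ ((s + 3 : ℕ) : WithBot ℕ∞)) {P : X.Modules → Prop}
    (hP : ∀ L, P L → PicF.IsInvertible L) (h : SqBd k p (s + 1) P) : SqBd c.K (p.pull c.g) s (c.res P) := by
  obtain ⟨B, hB⟩ := h
  refine ⟨B + 2 * B + |deg k p (s + 2) p.M|, ?_⟩
  rintro _ ⟨L, hL, rfl⟩
  have hT := TMul.isInvertible_tensorMod (hP L hL) p.amp.1
  rw [c.deg_res hd hT, c.sq_res hd hT, deg_tensor p hd (hP L hL) p.amp.1, sq_tensor p hd (hP L hL)]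
  obtain ⟨h1, h2⟩ := hB L hL
  have h1' := abs_le.1 h1
  have h3 := abs_le.1 (le_refl |deg k p (s + 2) p.M|)
  exact ⟨abs_le.2 ⟨by linarith, by linarith⟩, by linarith⟩

theorem euler_curve_eq (p : Pol X) (hd : topologicalKrullDim X ≤ ((1 : ℕ) : WithBot ℕ∞)) {G : X.Modules}
    (hG : PicF.IsInvertible G) :
    (Curv2.euler k X G : ℚ) = Curv2.euler k X (Coh.structureModule X) + deg k p 0 G := by
  simp only [deg, List.replicate_zero, D]
  rw [euler_congr k (show PicF.cl (CohB1.tensorMod (Coh.structureModule X) G) = PicF.cl G by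
    rw [cl_tensor, cl_one, one_mul])]
  ring

/-- On an integral curve bounded degree gives bounded values and bounded first cohomology. -/
theorem exists_curve_bound [IsIntegral X] (p : Pol X) (hd : topologicalKrullDim X = ((1 : ℕ) : WithBot ℕ∞)) (B : ℚ) :
    ∃ n₀ : ℕ, (∀ G, PicF.IsInvertible G → |deg k p 0 G| ≤ B → ∀ n, n₀ ≤ n → CurveRR.h k (tH p.M G n) 1 = 0) ∧
      ∃ U : ℕ, ∀ G, PicF.IsInvertible G → |deg k p 0 G| ≤ B → ∀ n, n < n₀ → CurveRR.h k (tH p.M G n) 1 ≤ U := by
  let F : X.Modules → Prop := fun G => PicF.IsInvertible G ∧ |deg k p 0 G| ≤ B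
  have hv : ValBd k p F := fun n => by
    refine ⟨⌈|(Curv2.euler k X (Coh.structureModule X) : ℚ)| + B + n * |deg k p 0 p.M|⌉₊, fun G hG => ?_⟩
    have h := euler_curve_eq (k := k) p hd.le (isInvertible_tH p.amp hG.1 n)
    rw [deg_tH p hd.le hG.1] at h
    have e : |(Curv2.euler k X (tH p.M G n) : ℚ)| ≤
        |(Curv2.euler k X (Coh.structureModule X) : ℚ)| + B + n * |deg k p 0 p.M| := by
      rw [h]
      refine (abs_add_le _ _).trans ?_
      rw [add_assoc]
      refine add_le_add le_rfl ((abs_add_le _ _).trans (add_le_add hG.2 ?_))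
      rw [abs_mul, Nat.abs_cast]
    exact_mod_cast e.trans (Nat.le_ceil _)
  obtain ⟨n₀, h₀⟩ := van_of_valBd 1 k X p hd F (fun G hG => hG.1) hv
  refine ⟨n₀, fun G hG hGB n hn => h₀ G ⟨hG, hGB⟩ n hn 0, ?_⟩
  obtain ⟨F₀, hF₀⟩ := exists_h0_bound 0 k X p hd (B + n₀ * |deg k p 0 p.M|)
  choose Bv hBv using hv
  refine ⟨F₀ + (Finset.range n₀).sup Bv, fun G hG hGB n hn => ?_⟩
  have hi := isInvertible_tH p.amp hG n
  have he := CurveRR.euler_eq (k := k) (show topologicalKrullDim X ≤ 1 from hd.le) (tH p.M G n)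
  have hh : CurveRR.h k (tH p.M G n) 0 ≤ F₀ := hF₀ _ hi (by
    rw [deg_tH p hd.le hG]
    have h2 : (n : ℚ) * deg k p 0 p.M ≤ n₀ * |deg k p 0 p.M| :=
      mul_le_mul (by exact_mod_cast hn.le) (le_abs_self _) (deg_pos p hd).le (by positivity)
    linarith [(abs_le.1 hGB).2])
  have hb := (abs_le.1 (hBv n G ⟨hG, hGB⟩)).1
  have hs : Bv n ≤ (Finset.range n₀).sup Bv := Finset.le_sup (Finset.mem_range.2 hn)
  omega

/-- Upper bound for the Euler characteristic on an integral surface. -/
theorem exists_euler_upper [IsIntegral X] (p : Pol X) (hd : topologicalKrullDim X = ((2 : ℕ) : WithBot ℕ∞)) (B : ℚ) :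
    ∃ U : ℕ, ∀ L, PicF.IsInvertible L → |deg k p 1 L| ≤ B → Curv2.euler k X L ≤ U := by
  obtain ⟨c⟩ := exists_cut (k := k) p hd
  obtain ⟨F, hF⟩ := exists_h0_bound 1 k X p hd B
  let d := |deg k p 1 p.M|
  obtain ⟨n₀, hz, U, hU⟩ := exists_curve_bound (k := c.K) (p.pull c.g) c.dim (B + d)
  let N := n₀ + 1 + Fintype.card p.J
  refine ⟨F + N * U, fun L hL hLB => ?_⟩
  have hT := TMul.isInvertible_tensorMod hL p.amp.1
  have hG : |deg c.K (p.pull c.g) 0 ((Scheme.Modules.pullback c.g).obj (CohB1.tensorMod L p.M))| ≤ B + d := by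
    rw [c.deg_res hd.le hT, deg_tensor p hd.le hL p.amp.1]
    exact (abs_add_le _ _).trans (add_le_add hLB le_rfl)
  have hGi := PicLoc.isInvertible_pullback c.g hT
  have hstep : ∀ m, CurveRR.h k (tH p.M L m) 2 ≤ CurveRR.h k (tH p.M L (m + 1)) 2 + U := fun m => by
    have h := c.first _ (isInvertible_tH p.amp hL m) 1
    rw [← h_congr k (cl_tH_succ p.M L m), h_congr c.K ((cl_pull_congr c.g (cl_tH_succ p.M L m)).symm.trans (c.cl_res L m))] at h
    refine h.trans (add_le_add le_rfl ?_)
    rcases lt_or_ge m n₀ with hm | hm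
    · exact hU _ hGi hG m hm
    · rw [hz _ hGi hG m hm]; exact Nat.zero_le _
  have hsum : ∀ m, CurveRR.h k (tH p.M L 0) 2 ≤ CurveRR.h k (tH p.M L m) 2 + m * U := fun m => by
    induction m with
    | zero => simp
    | succ m ih =>
      have := hstep m
      rw [Nat.succ_mul]
      omega
  have hN : CurveRR.h k (tH p.M L N) 2 = 0 := by
    refine (c.vanish L hL (n₀ + 1) (fun j hj q => ?_) N le_rfl).1 0
    obtain ⟨j', rfl⟩ := Nat.exists_eq_add_of_le' (show 1 ≤ j by omega)
    rw [h_congr c.K (c.cl_res L j')]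
    rcases q with _ | q
    · exact hz _ hGi hG j' (by omega)
    · exact CurveRR.h_eq_zero (CurveRR.subsingleton_of_two_le (k := c.K)
        (show topologicalKrullDim c.Z ≤ 1 from c.dim.le) _ _ (by omega))
  have h2 := hsum N
  rw [hN, h_congr k (show PicF.cl (tH p.M L 0) = PicF.cl L by rw [cl_tH, pow_zero, mul_one])] at h2
  haveI := CurveRR.isNoetherian_of_proper k X
  rw [CurveRR.euler_eq_sum (k := k) L 3 fun q hq =>
    S0458.result (X := X.toPresheafedSpace.carrier) 2 hd.le (Coh.toAb L) q (by omega)]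
  simp only [Finset.sum_range_succ, Finset.sum_range_zero]
  have := hF L hL (abs_le.1 hLB).2
  push_cast
  omega

/-- On a surface degree bounded and self-intersection bounded below give bounded values. -/
theorem valBd_of_sqBd [IsIntegral X] (p : Pol X) (hd : topologicalKrullDim X = ((2 : ℕ) : WithBot ℕ∞))
    {P : X.Modules → Prop} (hP : ∀ L, P L → PicF.IsInvertible L) (h : SqBd k p 0 P) : ValBd k p P := by
  obtain ⟨B, hB⟩ := h
  intro n
  let d := |deg k p 1 p.M|
  obtain ⟨U, hU⟩ := exists_euler_upper (k := k) p hd (B + n * d)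
  let χ₀ := (Curv2.euler k X (Coh.structureModule X) : ℚ)
  refine ⟨⌈(U : ℚ) + 2 * |χ₀| + (B + 2 * n * B + n * n * d)⌉₊, fun L hL => ?_⟩
  obtain ⟨h1, h2⟩ := hB L hL
  let T := tH p.M L n
  have hT : PicF.IsInvertible T := isInvertible_tH p.amp (hP L hL) n
  obtain ⟨T', hT', hTT'⟩ := W7Hull.exists_tensor_inverse hT
  have hdT : |deg k p 1 T| ≤ B + n * d := by
    rw [deg_tH p hd.le (hP L hL)]
    refine (abs_add_le _ _).trans (add_le_add h1 ?_)
    rw [abs_mul, Nat.abs_cast]
  have u1 : (Curv2.euler k X T : ℚ) ≤ U := by exact_mod_cast hU T hT hdT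
  have u2 : (Curv2.euler k X T' : ℚ) ≤ U := by
    have := hU T' hT' (by rw [deg_inv p hd.le hT hT' (cl_inv hTT'), abs_neg]; exact hdT)
    exact_mod_cast this
  have key : (Curv2.euler k X T : ℚ) + Curv2.euler k X T' = 2 * χ₀ + sq k p 0 T := by
    have e1 : D k [T, T'] (Coh.structureModule X) = -D k [T, T] (Coh.structureModule X) := by
      have h := D_two_tensor (k := k) (s := 0) p hd.le hT hT' hT
      simp only [List.replicate_zero] at h
      rw [D_perm k (List.Perm.swap (CohB1.tensorMod T T') T []), D_cons_congr (cl_inv hTT' |>.trans cl_one.symm :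
        PicF.cl (CohB1.tensorMod T T') = PicF.cl (Coh.structureModule X)), D_one_cons] at h
      linarith
    have e2 : D k [T, T'] (Coh.structureModule X) = 2 * χ₀ - Curv2.euler k X T - Curv2.euler k X T' := by
      simp only [D]
      rw [euler_congr k (show PicF.cl (CohB1.tensorMod (Coh.structureModule X) T') = PicF.cl T' by
          rw [cl_tensor, cl_one, one_mul]),
        euler_congr k (show PicF.cl (CohB1.tensorMod (Coh.structureModule X) T) = PicF.cl T by
          rw [cl_tensor, cl_one, one_mul]),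
        euler_congr k (show PicF.cl (CohB1.tensorMod (CohB1.tensorMod (Coh.structureModule X) T) T') =
          PicF.cl (Coh.structureModule X) by
          rw [cl_tensor, cl_tensor, cl_one, one_mul, cl_inv hTT'])]
      ring
    simp only [sq, List.replicate_zero, pow_zero, one_mul]
    linarith
  have hsq : sq k p 0 T = sq k p 0 L + 2 * n * deg k p 1 L + n * n * deg k p 1 p.M := sq_tH p hd.le (hP L hL) n
  have hd1 := abs_le.1 h1
  have hdM : -d ≤ deg k p 1 p.M := (abs_le.1 (le_refl d)).1
  have hn : (0 : ℚ) ≤ n := Nat.cast_nonneg n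
  have h3 : -(2 * n * B) ≤ 2 * n * deg k p 1 L := by nlinarith
  have h4 : -(n * n * d) ≤ n * n * deg k p 1 p.M := by nlinarith
  have hχ := abs_le.1 (le_refl |χ₀|)
  have hb : |(Curv2.euler k X T : ℚ)| ≤ (U : ℚ) + 2 * |χ₀| + (B + 2 * n * B + n * n * d) := by
    have hB0 : (0 : ℚ) ≤ B := (abs_nonneg _).trans h1
    have : (0 : ℚ) ≤ B + 2 * n * B + n * n * d := by positivity
    exact abs_le.2 ⟨by linarith, by linarith [abs_nonneg χ₀]⟩
  exact_mod_cast hb.trans (Nat.le_ceil _)

/-- Degree bounded and self-intersection bounded below bound the top differences. -/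
theorem topBd_of_sqBd : ∀ (s : ℕ) (k : Type u) [Field k] (X : Scheme.{u}) [X.Over (Spec (CommRingCat.of k))]
    [IsProper (X ↘ Spec (CommRingCat.of k))] [IsIntegral X] (p : Pol X),
    topologicalKrullDim X = ((s + 2 : ℕ) : WithBot ℕ∞) →
    ∀ P : X.Modules → Prop, (∀ L, P L → PicF.IsInvertible L) → SqBd k p s P → TopBd k p s P := by
  intro s
  induction s with
  | zero =>
    intro k _ X _ _ _ p hd P hP h n
    obtain ⟨B, hB⟩ := valBd_of_sqBd (k := k) p hd hP h n
    refine ⟨B, fun L hL => ?_⟩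
    simp only [List.replicate_zero, D]
    exact_mod_cast hB L hL
  | succ s ih =>
    intro k _ X _ _ _ p hd P hP h n
    obtain ⟨c⟩ := exists_cut (k := k) p hd
    obtain ⟨B, hB⟩ := ih c.K c.Z (p.pull c.g) c.dim _ (c.res_inv hP) (c.sqBd_res hd.le hP h) n
    refine ⟨B, fun L hL => ?_⟩
    have hi := isInvertible_tH p.amp (hP L hL) n
    have h1 := c.D_step _ (mem_replicate_inv p.amp.1 s) _ hi
    rw [List.map_replicate, D_congr (show PicF.cl ((Scheme.Modules.pullback c.g).obj (CohB1.tensorMod (tH p.M L n) p.M)) =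
      PicF.cl (tH (p.pull c.g).M ((Scheme.Modules.pullback c.g).obj (CohB1.tensorMod L p.M)) n) by
        rw [← c.cl_res, cl_pull_congr c.g (cl_tH_succ p.M L n)])] at h1
    rw [List.replicate_succ, D, abs_sub_comm, h1]
    exact hB _ ⟨L, hL, rfl⟩

end Groth.Agent.PicFin
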