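import Groth.Agent.PicFin.Assemble
import Groth.Agent.PlaneCurve.Hyp
import Groth.Agent.GrT.TwistTensor

/-!
Bounds for the first cohomology of the twists of an invertible module of non-positive degree on an
integral surface: the generic curve section, on which the twists of negative degree have no sections
and the first cohomology drops strictly until it vanishes.
-/

set_option autoImplicit false
set_option backward.isDefEq.respectTransparency false
set_option linter.style.haveILetI false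
set_option linter.unusedSectionVars false

universe u

open CategoryTheory CategoryTheory.Limits AlgebraicGeometry TopologicalSpace
open Groth.Agent.Intersect Groth.Agent.Nakai

noncomputable section

namespace Groth.Agent.PicFin

attribute [local instance] Nakai.clMonoid

variable {k : Type u} [Field k] {X : Scheme.{u}} [X.Over (Spec (CommRingCat.of k))]
  [IsProper (X ↘ Spec (CommRingCat.of k))]

/-- The twists of an invertible module by all integers. -/
structure Twists (p : Pol X) (T : ℤ → X.Modules) : Prop where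
  inv : ∀ m, PicF.IsInvertible (T m)
  step : ∀ m, PicF.cl (T (m + 1)) = PicF.cl (T m) * PicF.cl p.M

variable {p : Pol X} {T : ℤ → X.Modules} (h : Twists p T)

include h

theorem Twists.cl_add (j : ℤ) : ∀ n : ℕ, PicF.cl (tH p.M (T j) n) = PicF.cl (T (j + n))
  | 0 => by rw [cl_tH, pow_zero, mul_one, Nat.cast_zero, add_zero]
  | n + 1 => by rw [cl_tH_succ, cl_tensor, Twists.cl_add j n, Nat.cast_succ, ← add_assoc, h.step]

theorem Twists.cl_succ (m : ℤ) : PicF.cl (T (m + 1)) = PicF.cl (CohB1.tensorMod (T m) p.M) := by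
  rw [cl_tensor, h.step]

omit h

/-- The pairing on a surface by Euler characteristics. -/
theorem D2_euler (hd : topologicalKrullDim X ≤ ((2 : ℕ) : WithBot ℕ∞)) {A B G G₁ G₂ G₁₂ : X.Modules}
    (hA : PicF.IsInvertible A) (hB : PicF.IsInvertible B) (hG : PicF.IsInvertible G)
    (h₁ : PicF.cl G₁ = PicF.cl G * PicF.cl A) (h₂ : PicF.cl G₂ = PicF.cl G * PicF.cl B)
    (h₁₂ : PicF.cl G₁₂ = PicF.cl G * PicF.cl A * PicF.cl B) :
    D k [A, B] (Coh.structureModule X) = (Curv2.euler k X G : ℚ) - Curv2.euler k X G₂ - Curv2.euler k X G₁ +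
      Curv2.euler k X G₁₂ := by
  have hl : ∀ M ∈ [A, B], PicF.IsInvertible M := by simp [hA, hB]
  rw [← D_top_eq (k := k) hd hl rfl hG]
  simp only [D]
  rw [euler_congr k (show PicF.cl G₂ = PicF.cl (CohB1.tensorMod G B) by rw [cl_tensor, h₂]),
    euler_congr k (show PicF.cl G₁ = PicF.cl (CohB1.tensorMod G A) by rw [cl_tensor, h₁]),
    euler_congr k (show PicF.cl G₁₂ = PicF.cl (CohB1.tensorMod (CohB1.tensorMod G A) B) by
      rw [cl_tensor, cl_tensor, h₁₂])]
  ring

theorem deg_one_eq (L : X.Modules) : deg k p 1 L = D k [L, p.M] (Coh.structureModule X) := by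
  simp [deg]

include h

theorem Twists.second_diff (hd : topologicalKrullDim X ≤ ((2 : ℕ) : WithBot ℕ∞)) (m : ℤ) :
    (Curv2.euler k X (T (m + 2)) : ℚ) - 2 * Curv2.euler k X (T (m + 1)) + Curv2.euler k X (T m) = deg k p 1 p.M := by
  rw [deg_one_eq, D2_euler hd p.amp.1 p.amp.1 (h.inv m) (G₁₂ := T (m + 2)) (h.step m) (h.step m)
    (by rw [show m + 2 = m + 1 + 1 by ring, h.step, h.step])]
  ring

theorem Twists.deg_eq (hd : topologicalKrullDim X ≤ ((2 : ℕ) : WithBot ℕ∞)) :
    ∀ m : ℤ, deg k p 1 (T m) = deg k p 1 (T 0) + m * deg k p 1 p.M := by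
  have hs : ∀ m, deg k p 1 (T (m + 1)) = deg k p 1 (T m) + deg k p 1 p.M := fun m => by
    rw [deg_congr p (h.cl_succ m), deg_tensor p hd (h.inv m) p.amp.1]
  intro m
  induction m using Int.induction_on with
  | zero => simp
  | succ i ih => rw [hs, ih]; push_cast; ring
  | pred i ih =>
    have h2 := hs (-(i : ℤ) - 1)
    rw [show -(i : ℤ) - 1 + 1 = -(i : ℤ) by ring, ih] at h2
    push_cast at h2 ⊢
    linarith

theorem Twists.h0_eq_zero [IsIntegral X] (hd : topologicalKrullDim X = ((2 : ℕ) : WithBot ℕ∞))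
    (hneg : deg k p 1 (T 0) ≤ 0) {m : ℤ} (hm : m < 0) : CurveRR.h k (T m) 0 = 0 := by
  by_contra hne
  have h1 := deg_nonneg_of_section p hd (h.inv m) hne
  rw [h.deg_eq hd.le] at h1
  have h2 := deg_pos (k := k) p hd
  have h3 : (m : ℚ) ≤ -1 := by exact_mod_cast (show m ≤ -1 by omega)
  nlinarith

/-- The bounds on a surface in non-positive degree. -/
theorem Twists.surface_bound [IsIntegral X] (hd : topologicalKrullDim X = ((2 : ℕ) : WithBot ℕ∞))
    (hneg : deg k p 1 (T 0) ≤ 0) {a₀ a₁ : ℤ} (ha₀ : Curv2.euler k X (T (-1)) = a₀)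
    (ha₁ : Curv2.euler k X (T (-1)) - Curv2.euler k X (T (-2)) = a₁) :
    (∀ m : ℤ, (CurveRR.h k (T m) 1 : ℤ) ≤ a₁ * (a₁ + 1) - a₀) ∧ a₀ ≤ a₁ * (a₁ + 1) := by
  haveI := CurveRR.isNoetherian_of_proper k X
  obtain ⟨c⟩ := exists_cut (k := k) p hd
  let TZ : ℤ → c.Z.Modules := fun j => (Scheme.Modules.pullback c.g).obj (T j)
  have hZi : ∀ j, PicF.IsInvertible (TZ j) := fun j => PicLoc.isInvertible_pullback _ (h.inv j)
  have hZd : topologicalKrullDim c.Z ≤ 1 := c.dim.le
  have hZt : Twists (p.pull c.g) TZ :=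
    ⟨hZi, fun j => by rw [cl_pull_congr c.g (h.cl_succ j), cl_pull_tensor]; rfl⟩
  -- negative degree on the curve
  have hZ0 : ∀ j : ℤ, j < 0 → CurveRR.h c.K (TZ j) 0 = 0 := fun j hj => by
    by_contra hne
    have h1 := deg_nonneg_of_section (p.pull c.g) c.dim (hZi j) hne
    rw [c.deg_res hd.le (h.inv j), h.deg_eq hd.le] at h1
    have h2 := deg_pos (k := k) p hd
    have h3 : (j : ℚ) ≤ -1 := by exact_mod_cast (show j ≤ -1 by omega)
    nlinarith
  -- the curve's own section
  have hdrop : ∀ j : ℤ, CurveRR.h c.K (TZ (j + 1)) 1 ≤ CurveRR.h c.K (TZ j) 1 ∧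
      (CurveRR.h c.K (TZ j) 1 ≠ 0 → CurveRR.h c.K (TZ (j + 1)) 1 < CurveRR.h c.K (TZ j) 1) := by
    intro j
    obtain ⟨c'⟩ := exists_cut (k := c.K) (p.pull c.g) c.dim
    haveI := CurveRR.isNoetherian_of_proper c'.K c'.Z
    let n := Fintype.card (p.pull c.g).J
    obtain ⟨-, hle, hlt⟩ := c'.vanish (TZ (j - n)) (hZi _) 0 (fun _ _ q => CurveRR.h_eq_zero
      (SuppZero.subsingleton_hh_of_supported isClosed_univ
        (by rw [(Homeomorph.Set.univ c'.Z).isHomeomorph.topologicalKrullDim_eq, c'.dim]; rfl) _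
        (fun x hx => absurd trivial hx) (q + 1) (by omega))) n (by simp [n])
    have e0 : CurveRR.h c.K (tH (p.pull c.g).M (TZ (j - n)) n) 1 = CurveRR.h c.K (TZ j) 1 :=
      h_congr c.K (by rw [hZt.cl_add, sub_add_cancel]) 1
    have e1 : CurveRR.h c.K (tH (p.pull c.g).M (TZ (j - n)) (n + 1)) 1 = CurveRR.h c.K (TZ (j + 1)) 1 :=
      h_congr c.K (by rw [hZt.cl_add, show j - n + ((n + 1 : ℕ) : ℤ) = j + 1 by push_cast; ring]) 1
    rw [e0, e1] at hle hlt
    exact ⟨hle, hlt⟩
  let b := CurveRR.h c.K (TZ (-1)) 1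
  have hb : ∀ i : ℕ, CurveRR.h c.K (TZ (-1 + i)) 1 ≤ b - i := fun i => by
    induction i with
    | zero => simp [b]
    | succ i ih =>
      obtain ⟨h1, h2⟩ := hdrop (-1 + i)
      rw [Nat.cast_succ, ← add_assoc]
      by_cases h0 : CurveRR.h c.K (TZ (-1 + i)) 1 = 0
      · omega
      · have := h2 h0; omega
  have hcurve : (b : ℤ) = -a₁ := by
    have h1 := c.euler (T (-2)) (h.inv _)
    have e : PicF.cl (T (-1)) = PicF.cl (CohB1.tensorMod (T (-2)) p.M) := by
      have e' := h.cl_succ (-2)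
      norm_num at e'
      exact e'
    rw [← euler_congr k e, ← euler_congr c.K (cl_pull_congr c.g e)] at h1
    have h2 := CurveRR.euler_eq (k := c.K) hZd (TZ (-1))
    rw [hZ0 _ (by norm_num)] at h2
    change Curv2.euler k X (T (-1)) = _ + Curv2.euler c.K c.Z (TZ (-1)) at h1
    simp only [b]
    omega
  -- the two induction steps
  have hG : ∀ j : ℤ, CurveRR.h k (T j) 2 ≤ CurveRR.h k (T (j + 1)) 2 + CurveRR.h c.K (TZ (j + 1)) 1 ∧
      CurveRR.h k (T (j + 1)) 1 ≤ CurveRR.h k (T j) 1 + CurveRR.h c.K (TZ (j + 1)) 1 ∧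
      CurveRR.h k (T j) 1 ≤ CurveRR.h k (T (j + 1)) 1 + CurveRR.h c.K (TZ (j + 1)) 0 := fun j => by
    have e := h.cl_succ j
    have h1 := c.first _ (h.inv j) 1
    have h2 := c.mid _ (h.inv j) 1
    have h3 := c.first _ (h.inv j) 0
    rw [← h_congr k e, ← h_congr c.K (cl_pull_congr c.g e)] at h1 h2 h3
    exact ⟨h1, h2, h3⟩
  let s : ℕ → ℤ := fun i => ((b - i : ℕ) : ℤ)
  have hs : ∀ i : ℕ, 2 * (CurveRR.h c.K (TZ (-1 + i + 1)) 1 : ℤ) + s (i + 1) * (s (i + 1) - 1) ≤ s i * (s i - 1) := by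
    intro i
    have h1 := hb (i + 1)
    rw [Nat.cast_succ, ← add_assoc] at h1
    rcases Nat.eq_zero_or_pos (b - i) with h0 | h0
    · have : b - (i + 1) = 0 := by omega
      have hz : CurveRR.h c.K (TZ (-1 + i + 1)) 1 = 0 := by omega
      simp only [s, h0, this, hz]
      norm_num
    · have e : s (i + 1) = s i - 1 := by
        simp only [s]
        omega
      have h2 : (CurveRR.h c.K (TZ (-1 + i + 1)) 1 : ℤ) ≤ s i - 1 := e ▸ Int.ofNat_le.2 h1
      rw [e]
      nlinarith
  have hsum2 : ∀ i : ℕ, 2 * (CurveRR.h k (T (-1)) 2 : ℤ) + s i * (s i - 1) ≤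
      2 * CurveRR.h k (T (-1 + i)) 2 + b * ((b : ℤ) - 1) := fun i => by
    induction i with
    | zero => simp [s]
    | succ i ih =>
      rw [Nat.cast_succ, ← add_assoc]
      have h1 : (CurveRR.h k (T (-1 + i)) 2 : ℤ) ≤
          CurveRR.h k (T (-1 + i + 1)) 2 + CurveRR.h c.K (TZ (-1 + i + 1)) 1 := by exact_mod_cast (hG _).1
      linarith [hs i]
  have hsum1 : ∀ i : ℕ, 2 * (CurveRR.h k (T (-1 + i)) 1 : ℤ) + s i * (s i - 1) ≤
      2 * CurveRR.h k (T (-1)) 1 + b * ((b : ℤ) - 1) := fun i => by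
    induction i with
    | zero => simp [s]
    | succ i ih =>
      rw [Nat.cast_succ, ← add_assoc]
      have h1 : (CurveRR.h k (T (-1 + i + 1)) 1 : ℤ) ≤
          CurveRR.h k (T (-1 + i)) 1 + CurveRR.h c.K (TZ (-1 + i + 1)) 1 := by exact_mod_cast (hG _).2.1
      linarith [hs i]
  have hdown : ∀ i : ℕ, CurveRR.h k (T (-1 - i)) 1 ≤ CurveRR.h k (T (-1)) 1 := fun i => by
    induction i with
    | zero => simp
    | succ i ih =>
      have h1 := (hG (-1 - ((i + 1 : ℕ) : ℤ))).2.2
      rw [show -1 - ((i + 1 : ℕ) : ℤ) + 1 = -1 - i by push_cast; ring, hZ0 _ (by omega), add_zero] at h1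
      exact h1.trans ih
  have hpos : ∀ i, 0 ≤ s i * (s i - 1) := fun i => by
    rcases Nat.eq_zero_or_pos (b - i) with h0 | h0
    · simp [s, h0]
    · have : 1 ≤ s i := by
        simp only [s]
        exact_mod_cast h0
      nlinarith
  -- vanishing far away
  have hfar : CurveRR.h k (T (-1 + ((b + Fintype.card p.J : ℕ) : ℤ))) 2 = 0 := by
    have hv := (c.vanish (T (-1)) (h.inv _) b (fun n hn q => ?_) _ le_rfl).1 0
    · rwa [h_congr k (h.cl_add (-1) _)] at hv
    · rw [h_congr c.K (cl_pull_congr c.g (h.cl_add (-1) n))]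
      rcases q with _ | q
      · have := hb n
        change CurveRR.h c.K (TZ (-1 + n)) 1 = 0
        omega
      · exact CurveRR.h_eq_zero (CurveRR.subsingleton_of_two_le (k := c.K) hZd _ _ (by omega))
  have h2 := hsum2 (b + Fintype.card p.J)
  rw [hfar, Nat.cast_zero, mul_zero, zero_add] at h2
  have he : a₀ = (CurveRR.h k (T (-1)) 2 : ℤ) - CurveRR.h k (T (-1)) 1 := by
    rw [← ha₀, CurveRR.euler_eq_sum (k := k) (T (-1)) 3 fun q hq =>
      S0458.result (X := X.toPresheafedSpace.carrier) 2 hd.le (Coh.toAb (T (-1))) q (by omega)]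
    simp only [Finset.sum_range_succ, Finset.sum_range_zero, h.h0_eq_zero hd hneg (show (-1 : ℤ) < 0 by norm_num)]
    push_cast
    ring
  have hbb : a₁ * (a₁ + 1) = (b : ℤ) * (b - 1) := by rw [hcurve]; ring
  have hb0 : (0 : ℤ) ≤ b * ((b : ℤ) - 1) := by simpa [s] using hpos 0
  have hp := hpos (b + Fintype.card p.J)
  refine ⟨fun m => ?_, by rw [hbb]; linarith⟩
  rcases le_or_gt (-1) m with hm | hm
  · obtain ⟨i, rfl⟩ : ∃ i : ℕ, m = -1 + i := ⟨(m + 1).toNat, by omega⟩
    rw [hbb]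
    linarith [hsum1 i, hpos i]
  · obtain ⟨i, rfl⟩ : ∃ i : ℕ, m = -1 - i := ⟨(-1 - m).toNat, by omega⟩
    have : (CurveRR.h k (T (-1 - i)) 1 : ℤ) ≤ CurveRR.h k (T (-1)) 1 := by exact_mod_cast hdown i
    rw [hbb]
    linarith

omit h

/-- Integer functions with constant second difference. -/
theorem diff_of_second_diff {f : ℤ → ℤ} {E : ℤ} (hf : ∀ m, f (m + 2) - 2 * f (m + 1) + f m = E) :
    ∀ m, f (m + 1) - f m = E * (m + 2) + (f (-1) - f (-2)) := by
  intro m
  induction m using Int.induction_on with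
  | zero =>
    have h1 := hf (-1); have h2 := hf (-2)
    norm_num at h1 h2 ⊢
    linarith
  | succ i ih =>
    have h1 := hf i
    rw [show (i : ℤ) + 1 + 1 = i + 2 by ring]
    linarith
  | pred i ih =>
    have h1 := hf (-(i : ℤ) - 1)
    rw [show -(i : ℤ) - 1 + 2 = -(i : ℤ) + 1 by ring, show -(i : ℤ) - 1 + 1 = -(i : ℤ) by ring] at h1
    rw [show -(i : ℤ) - 1 + 1 = -(i : ℤ) by ring]
    linarith

theorem value_of_second_diff {f : ℤ → ℤ} {E : ℤ} (hf : ∀ m, f (m + 2) - 2 * f (m + 1) + f m = E) :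
    ∀ m, 2 * f m = E * ((m + 1) * (m + 2)) + 2 * (f (-1) - f (-2)) * (m + 1) + 2 * f (-1) := by
  have hd := diff_of_second_diff hf
  intro m
  induction m using Int.induction_on with
  | zero =>
    have h1 := hd (-1)
    norm_num at h1 ⊢
    linarith
  | succ i ih =>
    have h1 := hd i
    nlinarith
  | pred i ih =>
    have h1 := hd (-(i : ℤ) - 1)
    rw [show -(i : ℤ) - 1 + 1 = -(i : ℤ) by ring] at h1
    nlinarith

/-! ### Twists on projective space -/

omit [X.Over (Spec (CommRingCat.of k))] [IsProper (X ↘ Spec (CommRingCat.of k))] in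
theorem cl_pull_twist_add {n : ℕ} (i : X ⟶ CohB1.ProjSpace n k) (a b : ℤ) :
    PicF.cl ((Scheme.Modules.pullback i).obj (Twist.twistProjSpace n k (a + b))) =
      PicF.cl ((Scheme.Modules.pullback i).obj (Twist.twistProjSpace n k a)) *
        PicF.cl ((Scheme.Modules.pullback i).obj (Twist.twistProjSpace n k b)) := by
  obtain ⟨t⟩ := GrT.nonempty_twist_tensor_iso (CohB1.polyGrading n k) (a := a) (b := b) (c := a + b)
    (PlaneCurve.hasFracGens _) rfl
  rw [← cl_pull_tensor i]
  exact cl_pull_congr i ((PicGrp.cl_eq_cl_iff _ _).2 ⟨t.symm ≪≫ TMul.commIso _ _⟩)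

omit [X.Over (Spec (CommRingCat.of k))] [IsProper (X ↘ Spec (CommRingCat.of k))] in
theorem cl_pull_twist_zero {n : ℕ} (i : X ⟶ CohB1.ProjSpace n k) :
    PicF.cl ((Scheme.Modules.pullback i).obj (Twist.twistProjSpace n k 0)) = 1 := by
  obtain ⟨t⟩ := GrT.nonempty_twist_zero_iso (𝒜 := CohB1.polyGrading n k)
  rw [cl_pull_congr i (A := Twist.twistProjSpace n k 0) (B := Coh.structureModule _)
    ((PicGrp.cl_eq_cl_iff _ _).2 ⟨t⟩), cl_pull_one]

theorem twists_twistOn {n : ℕ} (i : X ⟶ CohB1.ProjSpace n k) [IsClosedImmersion i] {L : X.Modules}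
    (hL : PicF.IsInvertible L) : Twists (Pol.ofEmb i) (Pic13.twistOn k i L) := by
  refine ⟨fun m => TMul.isInvertible_tensorMod hL (PicLoc.isInvertible_pullback _
    (CohFinite.isInvertible_twist n k m)), fun m => ?_⟩
  rw [Pic13.twistOn, Pic13.twistOn, cl_tensor, cl_tensor, cl_pull_twist_add, mul_assoc]
  rfl

theorem cl_twistOn_zero {n : ℕ} (i : X ⟶ CohB1.ProjSpace n k) (L : X.Modules) :
    PicF.cl (Pic13.twistOn k i L 0) = PicF.cl L := by
  rw [Pic13.twistOn, cl_tensor, cl_pull_twist_zero, mul_one]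

end Groth.Agent.PicFin

namespace Groth.Agent.PicFin

attribute [local instance] Nakai.clMonoid

variable {k : Type u} [Field k] {X : Scheme.{u}} [X.Over (Spec (CommRingCat.of k))]
  [IsProper (X ↘ Spec (CommRingCat.of k))]

/-- The degree through the inverse modules, as the intersection number takes them. -/
theorem intNum_deg {n : ℕ} (i : X ⟶ CohB1.ProjSpace n k) [IsClosedImmersion i]
    (hd : topologicalKrullDim X ≤ ((2 : ℕ) : WithBot ℕ∞)) {L L' : X.Modules} (hL : PicF.IsInvertible L)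
    (hLL' : Nonempty (CohB1.tensorMod L L' ≅ Coh.structureModule X)) :
    (FGA.intNum k X 2 (Matrix.vecCons L' (fun _ : Fin 1 =>
        ((Scheme.Modules.pullback i).obj (Twist.twistProjSpace n k (-1))))) (Coh.structureModule X) : ℚ) =
      deg k (Pol.ofEmb i) 1 L := by
  let M' := (Scheme.Modules.pullback i).obj (Twist.twistProjSpace n k (-1))
  have hM : Nonempty (CohB1.tensorMod (Pol.ofEmb i).M M' ≅ Coh.structureModule X) :=
    iso_of_cl (by
      rw [cl_tensor, cl_one, ← cl_pull_twist_zero i, show (0 : ℤ) = 1 + -1 by norm_num, cl_pull_twist_add]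
      rfl)
  rw [show Matrix.vecCons L' (fun _ : Fin 1 => M') = ![L', M'] from
    funext fun j => by fin_cases j <;> rfl, intNum_eq_inter k hd, inter_inv k hd hL hLL'
    (Intersect.isInvertible_inverse (Pol.ofEmb i).amp.1 hM), inter_inv_right k hd (Pol.ofEmb i).amp.1 hM hL,
    neg_neg, deg_one_eq]
  rfl

/-- The self-intersection through the inverse module. -/
theorem intNum_self (hd : topologicalKrullDim X ≤ ((2 : ℕ) : WithBot ℕ∞)) {L L' : X.Modules}
    (hL : PicF.IsInvertible L) (hLL' : Nonempty (CohB1.tensorMod L L' ≅ Coh.structureModule X)) :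
    (FGA.intNum k X 2 (Matrix.vecCons L' (fun _ : Fin 1 => L')) (Coh.structureModule X) : ℚ) =
      -D k [L, L'] (Coh.structureModule X) := by
  rw [show Matrix.vecCons L' (fun _ : Fin 1 => L') = ![L', L'] from funext fun j => by fin_cases j <;> rfl,
    intNum_eq_inter k hd, inter_inv k hd hL hLL' (Intersect.isInvertible_inverse hL hLL')]
  rfl

end Groth.Agent.PicFin
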