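import Groth.Agent.GenMember.Apps
import Groth.Agent.PicBdd.Reps
import Groth.Agent.BettiNN.Basic
import Groth.Agent.ProjMor.Segre
import Groth.Agent.SchDense.Unit
import Groth.Agent.LefRel.Vanish
import Groth.Agent.LocFree.Props
import Groth.Agent.ResDesc.ResProp
import Groth.Agent.W7Cech.FlatBCSep

/-!
For a flat projective morphism with integral geometric fibres the τ-trivial locus is cut out by Euler
characteristics, hence closed.
-/

set_option autoImplicit false
set_option backward.isDefEq.respectTransparency false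
set_option linter.style.haveILetI false
set_option linter.unusedSectionVars false

universe u

open CategoryTheory CategoryTheory.Limits AlgebraicGeometry TopologicalSpace
open Groth.Agent.Intersect Groth.Agent.Nakai

noncomputable section

namespace Groth.Agent.PicFin

attribute [local instance] Nakai.clMonoid

variable {X S : Scheme.{u}} (f : X ⟶ S) [IsProper f]

/-- Euler characteristics at a geometric point. -/
theorem euler_geomPoint (Ω : Type u) [Field Ω] (σ : Spec (CommRingCat.of Ω) ⟶ S) {s : S}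
    (hs : Set.range σ.base = {s}) {M : X.Modules} (hM : Coh.IsQCoh M) :
    @Curv2.euler Ω _ (pullback f σ) ⟨pullback.snd f σ⟩ ((Scheme.Modules.pullback (pullback.fst f σ)).obj M) =
      PerfAux.eulerChar f M s := by
  letI : (pullback f σ).Over (Spec (CommRingCat.of Ω)) := ⟨pullback.snd f σ⟩
  let κ := S.residueField s
  letI : (f.fiber s).Over (Spec (CommRingCat.of ↥κ)) := ⟨f.fiberToSpecResidueField s⟩
  let pt : PrimeSpectrum Ω := IsLocalRing.closedPoint Ω
  have hpt : σ pt = s := (Set.ext_iff.1 hs _).1 ⟨pt, rfl⟩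
  obtain ⟨α, hα⟩ : ∃ α : κ ⟶ CommRingCat.of Ω, σ = Spec.map α ≫ S.fromSpecResidueField s := by
    let e := (Scheme.SpecToEquivOfField Ω S) σ
    have h : e.1 = s := by
      have : e.1 = σ (IsLocalRing.closedPoint Ω) := rfl
      rw [this, ← hpt]
    refine ⟨(S.residueFieldCongr h).inv ≫ e.2, ?_⟩
    rw [Spec.map_comp, Category.assoc, Scheme.residueFieldCongr_inv, Scheme.residueFieldCongr_fromSpecResidueField]
    exact ((Scheme.SpecToEquivOfField Ω S).symm_apply_apply σ).symm
  letI : Algebra κ Ω := α.hom.toAlgebra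
  have hcomm : (pullback.snd f σ ≫ Spec.map α) ≫ S.fromSpecResidueField s = pullback.fst f σ ≫ f := by
    rw [Category.assoc, ← hα, pullback.condition]
  let γ : pullback f σ ⟶ f.fiber s := pullback.lift (pullback.fst f σ) (pullback.snd f σ ≫ Spec.map α) hcomm.symm
  have hγ : γ ≫ f.fiberι s = pullback.fst f σ := pullback.lift_fst _ _ _
  have h0 : IsPullback (pullback.fst f σ) (pullback.snd f σ) f (Spec.map α ≫ S.fromSpecResidueField s) := by
    rw [← hα]; exact IsPullback.of_hasPullback f σ
  have sq : IsPullback γ (pullback f σ ↘ Spec (CommRingCat.of Ω)) (f.fiber s ↘ Spec (CommRingCat.of ↥κ))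
      (Spec.map (CommRingCat.ofHom (algebraMap κ Ω))) := by
    rw [show CommRingCat.ofHom (algebraMap κ Ω) = α from rfl]
    exact IsPullback.of_right (h₁₂ := f.fiberι s) (by rw [hγ]; exact h0) (pullback.lift_snd _ _ _)
      (IsPullback.of_hasPullback f (S.fromSpecResidueField s))
  haveI : IsProper (f.fiber s ↘ Spec (CommRingCat.of ↥κ)) := inferInstanceAs (IsProper (pullback.snd _ _))
  haveI : CompactSpace (f.fiber s) := QuasiCompact.compactSpace_of_compactSpace (f.fiber s ↘ Spec (CommRingCat.of ↥κ))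
  haveI : (f.fiber s).IsSeparated := by
    constructor
    rw [← terminal.comp_from (f.fiber s ↘ Spec (CommRingCat.of ↥κ))]
    infer_instance
  refine finsum_congr fun i => ?_
  obtain ⟨e⟩ := W7Cech.nonempty_hh_flatBC κ Ω γ sq ((Scheme.Modules.pullback (f.fiberι s)).obj M)
    (Groth.Agent.QC.isQCoh_pullback _ hM) i
  let j : (Scheme.Modules.pullback γ).obj ((Scheme.Modules.pullback (f.fiberι s)).obj M) ≅
      (Scheme.Modules.pullback (pullback.fst f σ)).obj M :=
    (Scheme.Modules.pullbackComp γ (f.fiberι s)).app M ≪≫ (Scheme.Modules.pullbackCongr hγ).app M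
  congr 2
  rw [show Module.finrank Ω (Coh.HH (pullback f σ) _ i) = _ from
    ((CohFinite.hhEquiv Ω j i).symm.trans e.symm).finrank_eq, Module.finrank_baseChange]
  rfl

theorem isTau_iff_euler {k : Type u} [Field k] [IsAlgClosed k] {Y : Scheme.{u}} [Y.Over (Spec (CommRingCat.of k))]
    [IsProper (Y ↘ Spec (CommRingCat.of k))] [IsIntegral Y] {H L : Y.Modules} (hH : CohB1.IsAmple H)
    (hL : PicF.IsInvertible L) :
    Pic13.IsTauEquivZero k Y L ↔ ∀ m n : ℕ,
      Curv2.euler k Y (CohB1.tensorMod (CohB1.tensorPow L m) (CohB1.tensorPow H n)) =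
        Curv2.euler k Y (CohB1.tensorPow H n) := by
  obtain ⟨d, hd⟩ := exists_dim_bound k (X := Y)
  constructor
  · rintro ⟨r, hr, halg⟩ m n
    have hf : DegFlat k L := fun F hF hFd => by
      have h1 := PicBdd.degFlat_of_alg k halg F hF hFd
      rw [PicBdd.D1_pow k hL hF hFd r] at h1
      exact (mul_eq_zero.1 h1).resolve_left (by exact_mod_cast hr.ne')
    have hHn := CurveRR.isCoh_of_inv (TMul.isInvertible_tensorPow hH.1 n)
    rw [euler_congr k (show PicF.cl (CohB1.tensorMod (CohB1.tensorPow L m) (CohB1.tensorPow H n)) =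
      PicF.cl (CohB1.tensorMod (CohB1.tensorPow H n) (CohB1.tensorPow L m)) by rw [cl_tensor, cl_tensor, mul_comm])]
    exact (unif k hH d _ hHn ((topologicalKrullDim_subspace_le Y _).trans hd)).1 _
      (TMul.isInvertible_tensorPow hL m) (hf.pow k hL m)
  · intro h
    exact GenMember.isTau_of_euler d hd hH hL fun m n => by
      rw [eulerCharLE_eq k d hd, eulerCharLE_eq k d hd]
      exact h m n

/-- The relatively ample module of an embedding is ample on each geometric fibre. -/
theorem isAmple_geomFibre (n : ℕ) (i : X ⟶ CohB1.ProjSpaceOver n S) [IsClosedImmersion i]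
    (hf : i ≫ CohB1.ProjSpaceOver.toBase n S = f) (Ω : Type u) [Field Ω] (σ : Spec (CommRingCat.of Ω) ⟶ S) :
    CohB1.IsAmple ((Scheme.Modules.pullback (pullback.fst f σ)).obj
      ((Scheme.Modules.pullback i).obj (Twist.twistOver n S 1))) := by
  let T := Spec (CommRingCat.of Ω)
  let z := CohB1.ProjSpace.toSpec n (ULift.{u} ℤ)
  let a : CohB1.ProjSpaceOver n T ⟶ CohB1.ProjSpaceOver n S :=
    pullback.lift (pullback.fst z _) (pullback.snd z _ ≫ σ) (by
      rw [pullback.condition, Category.assoc]; congr 1; exact specULiftZIsTerminal.hom_ext _ _)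
  have ha1 : a ≫ pullback.fst z _ = pullback.fst z _ := pullback.lift_fst _ _ _
  have hsq : IsPullback a (pullback.snd z _) (CohB1.ProjSpaceOver.toBase n S) σ := by
    refine IsPullback.of_right (h₁₂ := pullback.fst z _) ?_ (pullback.lift_snd _ _ _) (IsPullback.of_hasPullback _ _)
    rw [ha1, show σ ≫ specULiftZIsTerminal.from S = specULiftZIsTerminal.from T from specULiftZIsTerminal.hom_ext _ _]
    exact IsPullback.of_hasPullback _ _
  let j : pullback f σ ⟶ CohB1.ProjSpaceOver n T := hsq.lift (pullback.fst f σ ≫ i) (pullback.snd f σ)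
    (by rw [Category.assoc, hf, pullback.condition])
  have hj1 : j ≫ a = pullback.fst f σ ≫ i := hsq.lift_fst _ _ _
  have hj2 : j ≫ pullback.snd z _ = pullback.snd f σ := hsq.lift_snd _ _ _
  have hjc : IsClosedImmersion j := by
    refine MorphismProperty.of_isPullback (f := a) (g := i) (f' := pullback.fst f σ) (g' := j) ?_ inferInstance
    refine IsPullback.of_bot ?_ hj1.symm hsq
    rw [hj2, hf]
    exact IsPullback.of_hasPullback f σ
  haveI := hjc
  haveI : CompactSpace (pullback f σ : Scheme.{u}) := QuasiCompact.compactSpace_of_compactSpace (pullback.snd f σ)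
  refine ProjMor.isAmple_of_isRelVeryAmplePn (pullback.snd f σ) ⟨n, j, inferInstance, hj2, ⟨?_⟩⟩
  exact (Scheme.Modules.pullbackComp (pullback.fst f σ) i).app _ ≪≫
    (Scheme.Modules.pullbackComp (pullback.fst f σ ≫ i) (pullback.fst z _)).app _ ≪≫
    (Scheme.Modules.pullbackCongr (show (pullback.fst f σ ≫ i) ≫ pullback.fst z _ = j ≫ pullback.fst z _ by
      rw [← hj1, Category.assoc, ha1])).app _ ≪≫
    ((Scheme.Modules.pullbackComp j (pullback.fst z _)).app _).symm

theorem cl_pull_pow_mul {Z : Scheme.{u}} (g : Z ⟶ X) (L H : X.Modules) (m n : ℕ) :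
    PicF.cl ((Scheme.Modules.pullback g).obj (CohB1.tensorMod (CohB1.tensorPow L m) (CohB1.tensorPow H n))) =
      PicF.cl (CohB1.tensorMod (CohB1.tensorPow ((Scheme.Modules.pullback g).obj L) m)
        (CohB1.tensorPow ((Scheme.Modules.pullback g).obj H) n)) := by
  obtain ⟨e⟩ := TMul.nonempty_pullTensorIso g (CohB1.tensorPow L m) (CohB1.tensorPow H n)
  obtain ⟨e₁⟩ := TMul.nonempty_pullPowIso g L m
  obtain ⟨e₂⟩ := TMul.nonempty_pullPowIso g H n
  exact ((PicGrp.cl_eq_cl_iff _ _).2 ⟨PicGrp.tensorModIso e₁ e₂ ≪≫ e⟩).symm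

/-- The τ-trivial locus is closed. -/
theorem isClosed_tauLocus [IsNoetherian S] [Flat f] (n : ℕ) (i : X ⟶ CohB1.ProjSpaceOver n S) [IsClosedImmersion i]
    (hf : i ≫ CohB1.ProjSpaceOver.toBase n S = f)
    (hint : ∀ (Ω : Type u) [Field Ω] [IsAlgClosed Ω] (σ : Spec (CommRingCat.of Ω) ⟶ S), IsIntegral (pullback f σ))
    {L : X.Modules} (hL : PicF.IsInvertible L) : IsClosed {s : S | Pic13.IsTauTrivialAt f L s} := by
  haveI : IsLocallyNoetherian X := LocallyOfFiniteType.isLocallyNoetherian f
  haveI : LocallyOfFinitePresentation f := inferInstance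
  let H := (Scheme.Modules.pullback i).obj (Twist.twistOver n S 1)
  have hH : PicF.IsInvertible H := PicLoc.isInvertible_pullback i
    (PicLoc.isInvertible_pullback _ (CohFinite.isInvertible_twist n (ULift.{u} ℤ) 1))
  let χ : ℕ → ℕ → S → ℤ := fun m j s =>
    PerfAux.eulerChar f (CohB1.tensorMod (CohB1.tensorPow L m) (CohB1.tensorPow H j)) s
  have hinv : ∀ m j, PicF.IsInvertible (CohB1.tensorMod (CohB1.tensorPow L m) (CohB1.tensorPow H j)) := fun m j =>
    TMul.isInvertible_tensorMod (TMul.isInvertible_tensorPow hL m) (TMul.isInvertible_tensorPow hH j)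
  have hlc : ∀ m j, IsLocallyConstant (χ m j) := fun m j => by
    refine BettiNN.isLocallyConstant_eulerChar f
      (LocFree.isFP_of_isFinLocFree (ResDesc.isFinLocFree_of_isInvertible (hinv m j))) ?_
    obtain ⟨e⟩ := iso_of_cl (A := CohB1.tensorMod (Coh.structureModule X) (CohB1.tensorMod (CohB1.tensorPow L m) (CohB1.tensorPow H j)))
      (B := CohB1.tensorMod (CohB1.tensorPow L m) (CohB1.tensorPow H j)) (by rw [cl_tensor, cl_one, one_mul])
    exact fun x => FlatLimMod.isFlatOverAt_of_iso _ e (LefRel.isFlatOver_tensor f (hinv m j) (SchDense.isFlatOver_unit f) x)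
  have hset : {s : S | Pic13.IsTauTrivialAt f L s} = ⋂ (m : ℕ) (j : ℕ), {s | χ m j s = χ 0 j s} := by
    ext s
    have key : ∀ (Ω : Type u) [Field Ω] [IsAlgClosed Ω] (σ : Spec (CommRingCat.of Ω) ⟶ S),
        Set.range σ.base = {s} →
        (@Pic13.IsTauEquivZero Ω _ (pullback f σ) ⟨pullback.snd f σ⟩ ((Scheme.Modules.pullback (pullback.fst f σ)).obj L) ↔
          ∀ m j, χ m j s = χ 0 j s) := by
      intro Ω _ _ σ hσ
      letI : (pullback f σ).Over (Spec (CommRingCat.of Ω)) := ⟨pullback.snd f σ⟩
      haveI : IsProper (pullback f σ ↘ Spec (CommRingCat.of Ω)) := inferInstanceAs (IsProper (pullback.snd _ _))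
      haveI := hint Ω σ
      rw [isTau_iff_euler (isAmple_geomFibre f n i hf Ω σ) (PicLoc.isInvertible_pullback _ hL)]
      refine forall_congr' fun m => forall_congr' fun j => ?_
      simp only [χ]
      rw [← euler_geomPoint f Ω σ hσ (CurveRR.isCoh_of_inv (hinv m j)).1,
        ← euler_geomPoint f Ω σ hσ (CurveRR.isCoh_of_inv (hinv 0 j)).1,
        euler_congr Ω (cl_pull_pow_mul _ L H m j), euler_congr Ω (cl_pull_pow_mul _ L H 0 j),
        euler_congr Ω (show PicF.cl (CohB1.tensorMod (CohB1.tensorPow ((Scheme.Modules.pullback (pullback.fst f σ)).obj L) 0)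
          (CohB1.tensorPow ((Scheme.Modules.pullback (pullback.fst f σ)).obj H) j)) =
          PicF.cl (CohB1.tensorPow ((Scheme.Modules.pullback (pullback.fst f σ)).obj H) j) by
            rw [cl_tensor, cl_pow _ 0, pow_zero, one_mul])]
    simp only [Set.mem_setOf_eq, Set.mem_iInter]
    refine ⟨fun h => ?_, fun h Ω _ _ σ hσ => (key Ω σ hσ).2 h⟩
    let Ω := AlgebraicClosure (S.residueField s)
    let σ : Spec (CommRingCat.of Ω) ⟶ S :=
      Spec.map (CommRingCat.ofHom (algebraMap (S.residueField s) Ω)) ≫ S.fromSpecResidueField s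
    have hσ : Set.range σ.base = {s} := by
      refine Set.Subset.antisymm ?_ (Set.singleton_subset_iff.2 ⟨IsLocalRing.closedPoint Ω, ?_⟩)
      · rintro _ ⟨z, rfl⟩
        exact Scheme.fromSpecResidueField_apply s _
      · exact Scheme.fromSpecResidueField_apply s _
    exact (key Ω σ hσ).1 (h Ω σ hσ)
  rw [hset]
  refine isClosed_iInter fun m => isClosed_iInter fun j => ?_
  exact isClosed_eq (hlc m j).continuous (hlc 0 j).continuous

end Groth.Agent.PicFin
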