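import Groth.Agent.PicFin.Basic

/-!
Bounded Euler characteristics of twists imply uniform vanishing, on integral schemes.
-/

set_option autoImplicit false
set_option backward.isDefEq.respectTransparency false
set_option linter.style.haveILetI false
set_option linter.unusedSectionVars false

universe u

open CategoryTheory CategoryTheory.Limits AlgebraicGeometry TopologicalSpace
open Groth.Agent.Intersect Groth.Agent.Nakai

noncomputable section

namespace Groth.Agent.PicFin

attribute [local instance] Nakai.clMonoid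

section Defs

variable (k : Type u) [Field k] {X : Scheme.{u}} [X.Over (Spec (CommRingCat.of k))]

/-- The Euler characteristics of each twist stay bounded over the family. -/
def ValBd (p : Pol X) (P : X.Modules → Prop) : Prop :=
  ∀ n : ℕ, ∃ B : ℕ, ∀ L, P L → |Curv2.euler k X (tH p.M L n)| ≤ B

/-- Higher cohomology of high twists vanishes uniformly over the family. -/
def Van (p : Pol X) (P : X.Modules → Prop) : Prop :=
  ∃ n₀ : ℕ, ∀ L, P L → ∀ n, n₀ ≤ n → ∀ q, CurveRR.h k (tH p.M L n) (q + 1) = 0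

end Defs

variable {k : Type u} [Field k] {X : Scheme.{u}} [X.Over (Spec (CommRingCat.of k))]
  [IsProper (X ↘ Spec (CommRingCat.of k))]

/-- The family cut out on the member. -/
def Cut.res {p : Pol X} {r : ℕ} (c : Cut k p r) (P : X.Modules → Prop) : c.Z.Modules → Prop :=
  fun G => ∃ L, P L ∧ G = (Scheme.Modules.pullback c.g).obj (CohB1.tensorMod L p.M)

theorem Cut.res_inv {p : Pol X} {r : ℕ} (c : Cut k p r) {P : X.Modules → Prop}
    (hP : ∀ L, P L → PicF.IsInvertible L) : ∀ G, c.res P G → PicF.IsInvertible G := by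
  rintro _ ⟨L, hL, rfl⟩
  exact PicLoc.isInvertible_pullback _ (TMul.isInvertible_tensorMod (hP L hL) p.amp.1)

theorem cl_tH_succ (M L : X.Modules) (n : ℕ) :
    PicF.cl (tH M L (n + 1)) = PicF.cl (CohB1.tensorMod (tH M L n) M) := by
  rw [cl_tensor, cl_tH, cl_tH, pow_succ, mul_assoc]

theorem Cut.cl_res {p : Pol X} {r : ℕ} (c : Cut k p r) (L : X.Modules) (n : ℕ) :
    PicF.cl ((Scheme.Modules.pullback c.g).obj (tH p.M L (n + 1))) =
      PicF.cl (tH (p.pull c.g).M ((Scheme.Modules.pullback c.g).obj (CohB1.tensorMod L p.M)) n) := by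
  rw [cl_pull_tH, cl_tH, cl_tH, cl_pull_tensor, pow_succ']
  exact (mul_assoc _ _ _).symm

theorem Cut.euler_succ {p : Pol X} {r : ℕ} (c : Cut k p r) {L : X.Modules} (hL : PicF.IsInvertible L) (n : ℕ) :
    Curv2.euler k X (tH p.M L (n + 1)) = Curv2.euler k X (tH p.M L n) +
      Curv2.euler c.K c.Z (tH (p.pull c.g).M ((Scheme.Modules.pullback c.g).obj (CohB1.tensorMod L p.M)) n) := by
  rw [euler_congr k (cl_tH_succ p.M L n), c.euler _ (isInvertible_tH p.amp hL n)]
  refine congrArg _ (euler_congr c.K ?_)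
  rw [← c.cl_res, cl_pull_congr c.g (cl_tH_succ p.M L n)]

theorem Cut.valBd_res {p : Pol X} {r : ℕ} (c : Cut k p r) {P : X.Modules → Prop}
    (hP : ∀ L, P L → PicF.IsInvertible L) (hv : ValBd k p P) : ValBd c.K (p.pull c.g) (c.res P) := by
  intro n
  obtain ⟨B₁, h₁⟩ := hv n
  obtain ⟨B₂, h₂⟩ := hv (n + 1)
  refine ⟨B₁ + B₂, ?_⟩
  rintro _ ⟨L, hL, rfl⟩
  have e := c.euler_succ (hP L hL) n
  have a := abs_le.1 (h₁ L hL)
  have b := abs_le.1 (h₂ L hL)
  exact abs_le.2 ⟨by push_cast; omega, by push_cast; omega⟩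

theorem exists_D_bound (p : Pol X) {P : X.Modules → Prop} (hv : ValBd k p P) :
    ∀ m n : ℕ, ∃ B : ℚ, ∀ L, P L → |D k (List.replicate m p.M) (tH p.M L n)| ≤ B
  | 0, n => by
    obtain ⟨B, hB⟩ := hv n
    refine ⟨B, fun L hL => ?_⟩
    simp only [List.replicate_zero, D]
    exact_mod_cast hB L hL
  | m + 1, n => by
    obtain ⟨B₁, h₁⟩ := exists_D_bound p hv m n
    obtain ⟨B₂, h₂⟩ := exists_D_bound p hv m (n + 1)
    refine ⟨B₁ + B₂, fun L hL => ?_⟩
    simp only [List.replicate_succ, D]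
    rw [← D_congr (l := List.replicate m p.M) (cl_tH_succ p.M L n)]
    exact (abs_sub _ _).trans (add_le_add (h₁ L hL) (h₂ L hL))

theorem exists_deg_bound (p : Pol X) {P : X.Modules → Prop} (hv : ValBd k p P) (r : ℕ) :
    ∃ B : ℚ, ∀ L, P L → |deg k p r L| ≤ B := by
  obtain ⟨B, hB⟩ := exists_D_bound p hv r 0
  refine ⟨|D k (List.replicate r p.M) (Coh.structureModule X)| + B, fun L hL => ?_⟩
  rw [deg, abs_mul, abs_pow, abs_neg, abs_one, one_pow, one_mul, D,
    D_congr (l := List.replicate r p.M) (show PicF.cl (CohB1.tensorMod (Coh.structureModule X) L) = PicF.cl (tH p.M L 0) by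
      rw [cl_tensor, cl_tH, cl_one, one_mul, pow_zero, mul_one])]
  exact (abs_sub _ _).trans (add_le_add le_rfl (hB L hL))

theorem deg_tH (p : Pol X) {r : ℕ} (hd : topologicalKrullDim X ≤ ((r + 1 : ℕ) : WithBot ℕ∞)) {L : X.Modules}
    (hL : PicF.IsInvertible L) : ∀ n : ℕ, deg k p r (tH p.M L n) = deg k p r L + n * deg k p r p.M
  | 0 => by rw [deg_congr p (show PicF.cl (tH p.M L 0) = PicF.cl L by rw [cl_tH, pow_zero, mul_one])]; simp
  | n + 1 => by
    rw [deg_congr p (cl_tH_succ p.M L n), deg_tensor p hd (isInvertible_tH p.amp hL n) p.amp.1, deg_tH p hd hL n]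
    push_cast
    ring

theorem h0_bound_step [IsIntegral X] (p : Pol X) {r : ℕ} (hd : topologicalKrullDim X = ((r + 1 : ℕ) : WithBot ℕ∞))
    (c : Cut k p r) (hZ : ∀ B : ℚ, ∃ F : ℕ, ∀ L : X.Modules, PicF.IsInvertible L → deg k p r L ≤ B →
      CurveRR.h c.K ((Scheme.Modules.pullback c.g).obj L) 0 ≤ F) (B : ℚ) :
    ∃ F : ℕ, ∀ L : X.Modules, PicF.IsInvertible L → deg k p r L ≤ B → CurveRR.h k L 0 ≤ F := by
  obtain ⟨M', hM', hMM'⟩ := W7Hull.exists_tensor_inverse p.amp.1
  have hd0 := deg_pos (k := k) p hd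
  obtain ⟨N, hN⟩ := exists_nat_gt (B / deg k p r p.M)
  rw [div_lt_iff₀ hd0] at hN
  suffices h : ∀ N : ℕ, ∃ F : ℕ, ∀ L : X.Modules, PicF.IsInvertible L →
      deg k p r L < N * deg k p r p.M → CurveRR.h k L 0 ≤ F from
    (h N).imp fun F hF L hL hLB => hF L hL (hLB.trans_lt hN)
  intro N
  induction N with
  | zero =>
    refine ⟨0, fun L hL hlt => ?_⟩
    by_contra hne
    have := deg_nonneg_of_section p hd hL (show CurveRR.h k L 0 ≠ 0 by omega)
    simp at hlt
    linarith
  | succ N ihN =>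
    obtain ⟨F, hF⟩ := ihN
    obtain ⟨F', hF'⟩ := hZ ((N + 1 : ℕ) * deg k p r p.M)
    refine ⟨F + F', fun L hL hlt => ?_⟩
    have hL' := TMul.isInvertible_tensorMod hL hM'
    have hcl : PicF.cl (CohB1.tensorMod (CohB1.tensorMod L M') p.M) = PicF.cl L := by
      rw [cl_tensor, cl_tensor, mul_assoc, mul_comm (PicF.cl M'), cl_inv hMM', mul_one]
    have h1 := c.mid _ hL' 0
    rw [h_congr k hcl, h_congr c.K (cl_pull_congr c.g hcl)] at h1
    refine h1.trans (add_le_add (hF _ hL' ?_) (hF' L hL hlt.le))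
    rw [deg_tensor p hd.le hL hM', deg_inv p hd.le p.amp.1 hM' (cl_inv hMM')]
    push_cast at hlt
    linarith

/-- Sections are bounded by the degree. -/
theorem exists_h0_bound : ∀ (r : ℕ) (k : Type u) [Field k] (X : Scheme.{u}) [X.Over (Spec (CommRingCat.of k))]
    [IsProper (X ↘ Spec (CommRingCat.of k))] [IsIntegral X] (p : Pol X),
    topologicalKrullDim X = ((r + 1 : ℕ) : WithBot ℕ∞) →
    ∀ B : ℚ, ∃ F : ℕ, ∀ L : X.Modules, PicF.IsInvertible L → deg k p r L ≤ B → CurveRR.h k L 0 ≤ F := by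
  intro r
  induction r with
  | zero =>
    intro k _ X _ _ _ p hd B
    obtain ⟨c⟩ := exists_cut (k := k) p hd
    exact h0_bound_step p hd c (fun B =>
      ⟨_, fun L hL _ => (h0_dim_zero (k := c.K) c.dim.le (PicLoc.isInvertible_pullback c.g hL)).le⟩) B
  | succ r ih =>
    intro k _ X _ _ _ p hd B
    obtain ⟨c⟩ := exists_cut (k := k) p hd
    exact h0_bound_step p hd c (fun B => (ih c.K c.Z (p.pull c.g) c.dim B).imp fun F hF L hL hLB =>
      hF _ (PicLoc.isInvertible_pullback c.g hL) (by rw [c.deg_res hd.le hL]; exact hLB)) B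

theorem subsingleton_of_h {F : X.Modules} (hF : Coh.IsCoh F) {q : ℕ} (h : CurveRR.h k F q = 0) :
    Subsingleton (Coh.HH X F q) := by
  haveI := CohFinite.finite_proper k X _ hF q
  exact Module.finrank_zero_iff.1 h

theorem euler_two {F : X.Modules} (hF : Coh.IsCoh F) (h : ∀ q, CurveRR.h k F (q + 2) = 0) :
    Curv2.euler k X F = (CurveRR.h k F 0 : ℤ) - CurveRR.h k F 1 :=
  euler_eq_two k fun i => subsingleton_of_h hF (h i)

/-- Bounded values give uniform vanishing. -/
theorem van_of_valBd : ∀ (r : ℕ) (k : Type u) [Field k] (X : Scheme.{u}) [X.Over (Spec (CommRingCat.of k))]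
    [IsProper (X ↘ Spec (CommRingCat.of k))] [IsIntegral X] (p : Pol X),
    topologicalKrullDim X = (r : WithBot ℕ∞) →
    ∀ P : X.Modules → Prop, (∀ L, P L → PicF.IsInvertible L) → ValBd k p P → Van k p P := by
  intro r
  induction r with
  | zero =>
    intro k _ X _ _ _ p hd P hP _
    haveI := CurveRR.isNoetherian_of_proper k X
    refine ⟨0, fun L hL n _ q => CurveRR.h_eq_zero (SuppZero.subsingleton_hh_of_supported isClosed_univ ?_ _
      (fun x hx => absurd trivial hx) (q + 1) (by omega))⟩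
    rw [(Homeomorph.Set.univ X).isHomeomorph.topologicalKrullDim_eq, hd]
    rfl
  | succ r ih =>
    intro k _ X _ _ _ p hd P hP hv
    obtain ⟨c⟩ := exists_cut (k := k) p hd
    obtain ⟨n₀, hn₀⟩ := ih c.K c.Z (p.pull c.g) c.dim _ (c.res_inv hP) (c.valBd_res hP hv)
    let n₁ := n₀ + 1 + Fintype.card p.J
    obtain ⟨B, hB⟩ := hv n₁
    obtain ⟨Bd, hBd⟩ := exists_deg_bound p hv r
    obtain ⟨F, hF⟩ := exists_h0_bound r k X p hd (Bd + n₁ * deg k p r p.M)
    refine ⟨n₁ + (F + B), fun L hL n hn => ?_⟩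
    have hLi := hP L hL
    have hv' : ∀ m, n₁ ≤ m → (∀ q, CurveRR.h k (tH p.M L m) (q + 2) = 0) ∧
        CurveRR.h k (tH p.M L (m + 1)) 1 ≤ CurveRR.h k (tH p.M L m) 1 ∧
        (CurveRR.h k (tH p.M L m) 1 ≠ 0 → CurveRR.h k (tH p.M L (m + 1)) 1 < CurveRR.h k (tH p.M L m) 1) := by
      refine fun m hm => c.vanish L hLi (n₀ + 1) (fun j hj q => ?_) m hm
      obtain ⟨j', rfl⟩ := Nat.exists_eq_add_of_le' (show 1 ≤ j by omega)
      rw [h_congr c.K (c.cl_res L j')]
      exact hn₀ _ ⟨L, hL, rfl⟩ j' (by omega) q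
    have h1 : CurveRR.h k (tH p.M L n₁) 1 ≤ F + B := by
      have hc := CurveRR.isCoh_of_inv (isInvertible_tH p.amp hLi n₁)
      have he := euler_two (k := k) hc (hv' n₁ le_rfl).1
      have hh : CurveRR.h k (tH p.M L n₁) 0 ≤ F := hF _ (isInvertible_tH p.amp hLi n₁) (by
        rw [deg_tH p hd.le hLi]
        linarith [(abs_le.1 (hBd L hL)).2])
      have := (abs_le.1 (hB L hL)).1
      omega
    have hdrop : ∀ i, CurveRR.h k (tH p.M L (n₁ + i)) 1 ≤ (F + B) - i := fun i => by
      induction i with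
      | zero => simpa using h1
      | succ i ih =>
        obtain ⟨-, hle, hlt⟩ := hv' (n₁ + i) (Nat.le_add_right _ _)
        rw [← Nat.add_assoc]
        by_cases h0 : CurveRR.h k (tH p.M L (n₁ + i)) 1 = 0
        · omega
        · have := hlt h0
          omega
    intro q
    rcases q with _ | q
    · have := hdrop (n - n₁)
      rw [show n₁ + (n - n₁) = n by omega] at this
      show CurveRR.h k (tH p.M L n) 1 = 0
      omega
    · exact (hv' n (by omega)).1 q

end Groth.Agent.PicFin
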